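import Cfsg.Agent.Lib.Transfer.CN.MaxNilpotent
import Cfsg.Agent.Lib.Transfer.PStableFree
import Cfsg.Agent.Lib.Invol.ZJFunctor
import Cfsg.Agent.Lib.Transfer.Alperin
import Cfsg.Agent.Lib.Transfer.Cores
import Cfsg.Agent.Lib.Grp.FpfPrime
import Cfsg.Agent.Lib.Grp.SignalizerTransitive

/-!
CN-groups that are minimal simple of odd order: no three-step subgroups.
-/

set_option autoImplicit false
set_option linter.style.haveILetI false
set_option maxHeartbeats 1000000

open scoped Pointwise commutatorElement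

universe u

namespace Cfsg.Agent.Transfer.CN

open Cfsg.Agent

variable {G : Type u} [Group G] [Finite G]

theorem mk'_le_commutator {N : Subgroup G} [N.Normal] {K : Subgroup G} (h : K ≤ commutator G) :
    K.map (QuotientGroup.mk' N) ≤ commutator (G ⧸ N) := by
  rintro _ ⟨x, hx, rfl⟩
  have h1 : (commutator G).map (QuotientGroup.mk' N) ≤ commutator (G ⧸ N) := by
    rw [_root_.commutator_def, _root_.commutator_def, Subgroup.map_commutator]
    exact Subgroup.commutator_mono le_top le_top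
  exact h1 ⟨x, h hx, rfl⟩

theorem sylow_eq_bot_of_le_commutator [hn : Group.IsNilpotent G] {p : ℕ} [Fact p.Prime] (P : Sylow p G)
    (h : (P : Subgroup G) ≤ commutator G) : (P : Subgroup G) = ⊥ := by
  obtain ⟨Q, N, hN, hc⟩ := Grp.hasNormalPComplement_of_nilpotent (p := p) hn
  haveI := hN
  haveI := P.unique_of_normal inferInstance
  rw [Subsingleton.elim Q P] at hc
  have htop : (P : Subgroup G).map (QuotientGroup.mk' N) = ⊤ := by
    rw [← top_le_iff, ← Subgroup.map_top_of_surjective _ (QuotientGroup.mk'_surjective N), ← hc.sup_eq_top,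
      Subgroup.map_sup, QuotientGroup.map_mk'_self, bot_sup_eq]
  have h1 : (⊤ : Subgroup (G ⧸ N)) ≤ commutator (G ⧸ N) := htop ▸ mk'_le_commutator h
  rw [_root_.commutator_def] at h1
  have h2 := Transfer.eq_bot_of_le_commutator_top h1
  refine eq_bot_iff.2 fun x hx => ?_
  refine Subgroup.disjoint_def.1 hc.disjoint ((QuotientGroup.eq_one_iff x).1 ?_) hx
  exact Subgroup.mem_bot.1 (h2 ▸ Subgroup.mem_top _)

theorem sylow_le_of_nilpotent_quotient {p : ℕ} [Fact p.Prime] (P : Sylow p G) (h : (P : Subgroup G) ≤ commutator G)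
    (N : Subgroup G) [N.Normal] (hn : Group.IsNilpotent (G ⧸ N)) : (P : Subgroup G) ≤ N := by
  haveI := hn
  have h1 := sylow_eq_bot_of_le_commutator (P.mapSurjective (QuotientGroup.mk'_surjective N)) (mk'_le_commutator h)
  intro x hx
  exact (QuotientGroup.eq_one_iff x).1 (Subgroup.mem_bot.1 (h1 ▸ ⟨x, hx, rfl⟩))

namespace ThreeStep

variable {p : ℕ} (h : Cfsg.IsThreeStepGroup p G)

theorem coprime_orderOf {a y : G} (hy : y ∈ Cfsg.pCore p G) (ha : (orderOf a).Coprime p) :
    (orderOf a).Coprime (orderOf y) := by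
  obtain ⟨k, hk⟩ := Transfer.pCore_isPGroup p G ⟨y, hy⟩
  exact (ha.pow_right k).coprime_dvd_right (orderOf_dvd_of_pow_eq_one (congrArg Subtype.val hk :))

include h

theorem pCore_ne_top : Cfsg.pCore p G ≠ ⊤ := fun e => by
  obtain ⟨-, A, -, -, -, -, -, hne, -⟩ := h
  exact hne (top_le_iff.1 (e ▸ le_sup_left))

theorem not_nilpotent : ¬ Group.IsNilpotent G := fun hn => by
  obtain ⟨hH, A, hA, -, -, hcop, -, -, -, hfpf, -⟩ := h
  obtain ⟨a, ha, ha1⟩ := A.bot_or_exists_ne_one.resolve_left hA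
  obtain ⟨y, hy, hy1⟩ := (Cfsg.pCore p G).bot_or_exists_ne_one.resolve_left hH
  haveI := hn
  have hc : Commute a y := TypeP.commute_of_coprime_orderOf (F := ⊤) inferInstance (Subgroup.mem_top _)
    (Subgroup.mem_top _) (coprime_orderOf hy (hcop.coprime_dvd_left (A.orderOf_dvd_natCard ha)))
  exact hy1 (Subgroup.mem_bot.1 (hfpf a ha ha1 ▸ ⟨hy, Subgroup.mem_centralizer_singleton_iff.2 hc.symm.eq⟩))

theorem no_kernel (hCN : Cfsg.IsCNGroup G) (F : Subgroup G) : ¬ Kernel F := fun hF => by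
  obtain ⟨hH, A, hA, -, -, hcop, hWn, hWne, ⟨n, hn⟩, hfpf, hlast⟩ := h
  haveI := hF.normal
  set H := Cfsg.pCore p G with hHdef
  haveI : H.Normal := Transfer.pCore_normal' p G
  haveI := hWn
  obtain ⟨y, hy, hy1⟩ := H.bot_or_exists_ne_one.resolve_left hH
  have hfix : ∀ a ∈ A, a ≠ 1 → ∀ w ∈ H, Commute a w → w = 1 := fun a ha ha1 w hw hc =>
    Subgroup.mem_bot.1 (hfpf a ha ha1 ▸ ⟨hw, Subgroup.mem_centralizer_singleton_iff.2 hc.symm.eq⟩)
  have hAF : ∀ a ∈ A, a ∈ F → a = 1 := fun a ha haF => by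
    by_contra ha1
    have hd : (orderOf a).Coprime p := hcop.coprime_dvd_left (A.orderOf_dvd_natCard ha)
    have hHF : Disjoint H F := Subgroup.disjoint_def.2 fun {w} hw hwF => hfix a ha ha1 w hw
      (TypeP.commute_of_coprime_orderOf hF.nilpotent haF hwF (coprime_orderOf hw hd))
    exact hy1 (hfix a ha ha1 y hy (Subgroup.commute_of_normal_of_disjoint H F inferInstance hF.normal hHF y a hy haF).symm)
  have hAFcop : (Nat.card A).Coprime (Nat.card F) := by
    refine Nat.coprime_of_dvd fun r hr hd hd' => ?_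
    haveI := Fact.mk hr
    obtain ⟨a, ha⟩ := exists_prime_orderOf_dvd_card' r hd
    have ha1 : (a : G) ≠ 1 := fun e => hr.ne_one (by rw [← ha, ← Subgroup.orderOf_coe, e, orderOf_one])
    refine ha1 (hAF a a.2 (Transfer.mem_of_pow_mem (F.pow_index_mem (a : G)) ?_))
    rw [Subgroup.orderOf_coe, ha]
    exact hF.coprime.coprime_dvd_left hd'
  have hFW : ∀ z ∈ F, z ∈ H ⊔ A → z ∈ H := fun z hzF hzW => by
    obtain ⟨w, hw, a, ha, rfl⟩ := Subgroup.mem_sup_of_normal_left.1 hzW
    set m := orderOf (w * a)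
    have ham : a ^ m ∈ H := by
      rw [← QuotientGroup.eq_one_iff, QuotientGroup.mk_pow,
        show ((a : G) : G ⧸ H) = ((w * a : G) : G ⧸ H) by rw [QuotientGroup.mk_mul, (QuotientGroup.eq_one_iff w).2 hw, one_mul],
        ← QuotientGroup.mk_pow, pow_orderOf_eq_one, QuotientGroup.mk_one]
    have ham1 : a ^ m = 1 := orderOf_eq_one_iff.1 (Nat.eq_one_of_dvd_coprimes
      (coprime_orderOf ham (hcop.coprime_dvd_left (A.orderOf_dvd_natCard (A.pow_mem ha m)))) dvd_rfl dvd_rfl)
    have : a = 1 := orderOf_eq_one_iff.1 (Nat.eq_one_of_dvd_coprimes hAFcop (A.orderOf_dvd_natCard ha)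
      ((orderOf_dvd_of_pow_eq_one ham1).trans (F.orderOf_dvd_natCard hzF)))
    rw [this, mul_one]; exact hw
  obtain ⟨x₀, -, hx₀⟩ := SetLike.exists_of_lt (lt_top_iff_ne_top.2 hWne)
  obtain ⟨r, hr, x, ⟨i, hxo⟩, -, hx⟩ : ∃ r, r.Prime ∧ ∃ x, (∃ i, orderOf x = r ^ i) ∧ x ∈ Subgroup.zpowers x₀ ∧ x ∉ H ⊔ A := by
    by_contra hne
    push Not at hne
    exact hx₀ (Transfer.prime_parts x₀ _ hne)
  have hrp : r ∣ p := by
    by_contra hnd
    refine hx (Transfer.mem_of_pow_mem ((H ⊔ A).pow_index_mem x) ?_)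
    rw [hn, hxo]
    exact Nat.Coprime.pow _ _ (hr.coprime_iff_not_dvd.2 hnd)
  obtain ⟨a, ha, ha1⟩ := A.bot_or_exists_ne_one.resolve_left hA
  haveI := Kernel.quotient_nilpotent hCN hF
  have hcopxa : (orderOf x).Coprime (orderOf a) := by
    rw [hxo]
    exact ((hcop.coprime_dvd_left (A.orderOf_dvd_natCard ha)).coprime_dvd_right hrp).symm.pow_left i
  have hc := TypeP.commute_of_coprime_orderOf (F := ⊤) (x := (x : G ⧸ F)) (y := (a : G ⧸ F)) inferInstance
    (Subgroup.mem_top _) (Subgroup.mem_top _)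
    (Nat.Coprime.coprime_dvd_left (orderOf_map_dvd (QuotientGroup.mk' F) x)
      (hcopxa.coprime_dvd_right (orderOf_map_dvd (QuotientGroup.mk' F) a)))
  refine hlast x hx a ha ha1 (hFW _ ?_ ?_)
  · rw [← QuotientGroup.eq_one_iff, QuotientGroup.mk_mul, QuotientGroup.mk_mul, QuotientGroup.mk_mul,
      QuotientGroup.mk_inv, QuotientGroup.mk_inv, hc, mul_inv_cancel_right, mul_inv_cancel]
  · exact (H ⊔ A).mul_mem (hWn.conj_mem a (Subgroup.mem_sup_right ha) x) ((H ⊔ A).inv_mem (Subgroup.mem_sup_right ha))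

theorem centralizer_le [Fact p.Prime] : Subgroup.centralizer (Cfsg.pCore p G : Set G) ≤ Cfsg.pCore p G := by
  obtain ⟨hH, A, hA, -, -, hcop, hWn, hWne, -, hfpf, hlast⟩ := h
  set H := Cfsg.pCore p G with hHdef
  haveI : H.Normal := Transfer.pCore_normal' p G
  haveI := hWn
  obtain ⟨y, hy, hy1⟩ := H.bot_or_exists_ne_one.resolve_left hH
  obtain ⟨a₀, ha₀, ha₀1⟩ := A.bot_or_exists_ne_one.resolve_left hA
  have h1 : ∀ c ∈ Subgroup.centralizer (H : Set G), c ∈ H ⊔ A → c ∈ H := fun c hc hcW => by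
    obtain ⟨w, hw, a, ha, rfl⟩ := Subgroup.mem_sup_of_normal_left.1 hcW
    by_cases ha1 : a = 1
    · rw [ha1, mul_one]; exact hw
    · exfalso
      obtain ⟨z, hz, hz1, hzc⟩ := exists_center_mem (Transfer.pCore_isPGroup p G).isNilpotent (le_refl H)
        Subgroup.le_normalizer hH
      have h3 : Commute (w * a) z := (Subgroup.mem_centralizer_iff.1 hc z hz).symm
      have h4 : Commute a z := by
        have := ((hzc w hw).symm.inv_left).mul_left h3
        rwa [inv_mul_cancel_left] at this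
      exact hz1 (Subgroup.mem_bot.1 (hfpf a ha ha1 ▸ ⟨hz, Subgroup.mem_centralizer_singleton_iff.2 h4.symm.eq⟩))
  intro c hc
  by_contra hcH
  have hcW : c ∉ H ⊔ A := fun hcW => hcH (h1 c hc hcW)
  refine hlast c hcW a₀ ha₀ ha₀1 (h1 _ ?_ ?_)
  · have h2 : (Subgroup.centralizer (H : Set G)).Normal := Subgroup.normal_centralizer
    rw [show c * a₀ * c⁻¹ * a₀⁻¹ = c * (a₀ * c⁻¹ * a₀⁻¹) by group]
    exact Subgroup.mul_mem _ hc (h2.conj_mem _ (Subgroup.inv_mem _ hc) a₀)
  · exact (H ⊔ A).mul_mem (hWn.conj_mem _ (Subgroup.mem_sup_right ha₀) c) ((H ⊔ A).inv_mem (Subgroup.mem_sup_right ha₀))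

theorem sylow_not_normal [hp : Fact p.Prime] (P : Sylow p G) : ¬ (P : Subgroup G).Normal := fun hP => by
  have hle : (P : Subgroup G) ≤ Cfsg.pCore p G := Transfer.le_pCore hP P.isPGroup'
  obtain ⟨-, A, -, -, -, -, -, hne, ⟨n, hn⟩, -, -⟩ := h
  rcases n with _ | n
  · exact hne (Subgroup.index_eq_one.1 (hn.trans (pow_zero p)))
  · exact P.not_dvd_index ((dvd_pow_self p n.succ_ne_zero).trans
      (hn ▸ Subgroup.index_dvd_of_le (hle.trans le_sup_left)))

theorem sylow_not_le_commutator [hp : Fact p.Prime] (P : Sylow p G) : ¬ (P : Subgroup G) ≤ commutator G := fun hP => by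
  obtain ⟨-, A, -, -, -, -, hWn, hne, ⟨n, hn⟩, -, -⟩ := h
  haveI := hWn
  have hle := sylow_le_of_nilpotent_quotient P hP (Cfsg.pCore p G ⊔ A)
    (IsPGroup.of_card (p := p) (n := n) (by rw [← Subgroup.index_eq_card, hn])).isNilpotent
  rcases n with _ | n
  · exact hne (Subgroup.index_eq_one.1 (hn.trans (pow_zero p)))
  · exact P.not_dvd_index ((dvd_pow_self p n.succ_ne_zero).trans (hn ▸ Subgroup.index_dvd_of_le hle))

theorem eq_bot_of_normal [hp : Fact p.Prime] {q : ℕ} (hq : q.Prime) (hqp : q ≠ p) {V : Subgroup G} (hV : V.Normal)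
    (hVq : IsPGroup q V) : V = ⊥ := by
  haveI := Fact.mk hq
  have hd : Disjoint V (Cfsg.pCore p G) := IsPGroup.disjoint_of_ne _ _ hqp V _ hVq (Transfer.pCore_isPGroup p G)
  refine eq_bot_iff.2 fun v hv => Subgroup.disjoint_def.1 hd hv (centralizer_le h ?_) |> Subgroup.mem_bot.2
  exact Subgroup.mem_centralizer_iff.2 fun w hw =>
    (Subgroup.commute_of_normal_of_disjoint V _ hV (Transfer.pCore_normal' p G) hd v w hv hw).symm.eq

end ThreeStep

/-- A Sylow subgroup for a prime dividing a kernel is normal. -/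
theorem Kernel.sylow_normal {F : Subgroup G} (hF : Kernel F) {p : ℕ} [hp : Fact p.Prime] (hpF : p ∣ Nat.card F)
    (Q : Sylow p G) : (Q : Subgroup G).Normal := by
  haveI := hF.normal
  have hQF : (Q : Subgroup G) ≤ F := fun w hw => by
    obtain ⟨i, hi⟩ := IsPGroup.iff_orderOf.1 Q.isPGroup' ⟨w, hw⟩
    rw [Subgroup.orderOf_mk] at hi
    refine Transfer.mem_of_pow_mem (F.pow_index_mem w) ?_
    rw [hi]
    exact (hp.out.coprime_iff_not_dvd.2 fun hd => hp.out.not_dvd_one (hF.coprime ▸ Nat.dvd_gcd hpF hd)).pow_left i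
  haveI := hF.nilpotent
  let QF : Sylow p F := Q.subtype hQF
  haveI : (QF : Subgroup F).Characteristic := QF.characteristic_of_normal inferInstance
  have : ((QF : Subgroup F).map F.subtype).Normal := inferInstance
  rwa [Sylow.coe_subtype, Subgroup.map_subgroupOf_eq_of_le hQF] at this

namespace MinSimple

variable (hG : Cfsg.IsMinSimpleOddOrder G)
include hG

theorem not_nilpotent_top : ¬ Group.IsNilpotent G := fun hn => by
  haveI := hn
  haveI := hG.2.1
  rcases Subgroup.Normal.eq_bot_or_eq_top (inferInstance : (Subgroup.center G).Normal) with h | h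
  · exact Group.IsNilpotent.center_ne_bot (G := G) h
  · exact hG.2.2.1 ⟨⟨fun a b => (Subgroup.mem_center_iff.1 (h ▸ Subgroup.mem_top b) a)⟩⟩

theorem perfect : commutator G = ⊤ := by
  haveI := hG.2.1
  refine (Subgroup.Normal.eq_bot_or_eq_top (inferInstance : (commutator G).Normal)).resolve_left fun h => ?_
  refine hG.2.2.1 ⟨⟨fun a b => ?_⟩⟩
  have : ⁅a, b⁆ ∈ commutator G := by
    rw [_root_.commutator_def]; exact Subgroup.commutator_mem_commutator (Subgroup.mem_top a) (Subgroup.mem_top b)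
  rw [h, Subgroup.mem_bot] at this
  exact commutatorElement_eq_one_iff_mul_comm.1 this

theorem normalizer_ne_top {K : Subgroup G} (h1 : K ≠ ⊥) (h2 : K ≠ ⊤) : Subgroup.normalizer (K : Set G) ≠ ⊤ := fun h => by
  haveI := hG.2.1
  rcases Subgroup.Normal.eq_bot_or_eq_top (Subgroup.normalizer_eq_top_iff.1 h) with h' | h'
  · exact h1 h'
  · exact h2 h'

theorem ne_top_of_nilpotent {K : Subgroup G} (hK : Group.IsNilpotent K) : K ≠ ⊤ := fun h => by
  subst h
  exact not_nilpotent_top hG (Group.nilpotent_of_mulEquiv Subgroup.topEquiv)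

theorem qdFree {p : ℕ} [hp : Fact p.Prime] (hpG : p ∣ Nat.card G) (X : Subgroup G) :
    p ≠ 2 ∧ ¬ Cfsg.Involves ↥(Cfsg.qd p) X := by
  have hp2 : p ≠ 2 := fun h => hG.1.not_two_dvd_nat (h ▸ hpG)
  haveI : Fact (Nat.Prime 2) := ⟨Nat.prime_two⟩
  refine ⟨hp2, Transfer.qdFree_of_sylow_two_comm hp2 fun T => ?_⟩
  have h1 : Nat.card (T : Subgroup X) = 1 := by
    rw [T.card_eq_multiplicity, Nat.factorization_eq_zero_of_not_dvd
      (hG.1.of_dvd_nat X.card_subgroup_dvd_card).not_two_dvd_nat, pow_zero]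
  haveI := (Nat.card_eq_one_iff_unique.1 h1).1
  exact ⟨⟨fun a b => Subsingleton.elim _ _⟩⟩

/-- The normalizer of `Z(J(S))` is the Sylow normalizer, a Frobenius group with `S` in the kernel. -/
theorem sylow_normalizer (hCN : Cfsg.IsCNGroup G) {p : ℕ} [hp : Fact p.Prime] (hpG : p ∣ Nat.card G) (S : Sylow p G) :
    Subgroup.normalizer (Cfsg.centerThompsonAOf (S : Subgroup G) : Set G) = Subgroup.normalizer ((S : Subgroup G) : Set G) ∧
      ¬ Group.IsNilpotent (Subgroup.normalizer ((S : Subgroup G) : Set G)) ∧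
      ∃ F : Subgroup (Subgroup.normalizer ((S : Subgroup G) : Set G)), Kernel F ∧
        (S : Subgroup G).subgroupOf (Subgroup.normalizer ((S : Subgroup G) : Set G)) ≤ F := by
  have hW := Invol.isZJFunctor_centerThompsonA.{u} (p := p)
  obtain ⟨hp2, hfree⟩ := qdFree hG hpG ⊤
  have hfree' : ¬ Cfsg.Involves ↥(Cfsg.qd p) G := fun h => hfree
    ((Invol.isSectionOf_of_involves h).trans (Invol.IsSectionOf.of_surjective (Subgroup.topEquiv (G := G)).toMonoidHom
      (Subgroup.topEquiv (G := G)).surjective)).involves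
  set V := Cfsg.centerThompsonAOf (S : Subgroup G) with hV
  set L := Subgroup.normalizer (V : Set G) with hL
  have hSL : (S : Subgroup G) ≤ L := Subgroup.le_normalizer.trans (hW.normalizer_le _)
  have hSne : (S : Subgroup G) ≠ ⊥ := S.ne_bot_of_dvd_card hpG
  have hVne : V ≠ ⊥ := hW.ne_bot S.isPGroup' hSne
  have hVp : IsPGroup p V := S.isPGroup'.to_le (hW.le _)
  have hSK : (S : Subgroup G) ≤ ⁅L, L⁆ := by
    intro x hx
    refine Transfer.commutator_inf_sylow_le S ?_ ⟨perfect hG ▸ Subgroup.mem_top x, hx⟩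
    intro z hz u hu
    obtain ⟨y, hy, hy'⟩ := Invol.zj_control_of_free hp2 hW hfree' S (D := (S : Subgroup G))
      ⟨le_rfl, fun _ _ _ h => h⟩ (A := {z}) (Set.singleton_subset_iff.2 hz) (g := u)
      (fun a ha => by rw [Set.mem_singleton_iff.1 ha]; exact hu)
    rw [← hy' z rfl, show z⁻¹ * (y * z * y⁻¹) = ⁅z⁻¹, y⁆ by rw [commutatorElement_def]; group]
    exact Subgroup.commutator_mem_commutator (hSL (inv_mem hz)) hy
  let SL : Sylow p L := S.subtype hSL
  have hSder : (SL : Subgroup L) ≤ commutator L := by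
    intro x hx
    have h1 : (x : G) ∈ ⁅L, L⁆ := hSK hx
    rw [show ⁅L, L⁆ = (commutator L).map L.subtype by
      rw [_root_.commutator_def, Subgroup.map_commutator, ← MonoidHom.range_eq_map, Subgroup.range_subtype]] at h1
    obtain ⟨y, hy, hyx⟩ := h1
    rwa [← L.subtype_injective hyx]
  have hLt : L ≠ ⊤ := normalizer_ne_top hG hVne (ne_top_of_nilpotent hG hVp.isNilpotent)
  have hnn : ¬ Group.IsNilpotent L := fun hn => by
    haveI := hn
    have := sylow_eq_bot_of_le_commutator SL hSder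
    rw [Sylow.coe_subtype] at this
    exact hSne (by rw [← Subgroup.map_subgroupOf_eq_of_le hSL, this, Subgroup.map_bot])
  haveI := hG.2.2.2 L hLt
  rcases trichotomy (subgroup hCN L) with hn | ⟨F, hF⟩ | ⟨q, hq, h3⟩
  · exact absurd hn hnn
  · haveI := hF.normal
    have hSF : (SL : Subgroup L) ≤ F := sylow_le_of_nilpotent_quotient SL hSder F (Kernel.quotient_nilpotent (subgroup hCN L) hF)
    have hSn : (SL : Subgroup L).Normal := by
      haveI := hF.nilpotent
      let SF : Sylow p F := SL.subtype hSF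
      haveI : (SF : Subgroup F).Characteristic := SF.characteristic_of_normal inferInstance
      have : ((SF : Subgroup F).map F.subtype).Normal := inferInstance
      rwa [Sylow.coe_subtype, Subgroup.map_subgroupOf_eq_of_le hSF] at this
    have hLN : L = Subgroup.normalizer ((S : Subgroup G) : Set G) := le_antisymm
      ((Subgroup.normal_subgroupOf_iff_le_normalizer hSL).1 (by rwa [Sylow.coe_subtype] at hSn)) (hW.normalizer_le _)
    rw [← hLN]
    exact ⟨rfl, hnn, F, hF, hSF⟩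
  · exfalso
    by_cases hqp : q = p
    · subst hqp
      exact ThreeStep.sylow_not_le_commutator h3 SL hSder
    · haveI := Fact.mk hq
      haveI : (V.subgroupOf L).Normal := Subgroup.normal_in_normalizer
      have hVL : V ≤ L := Subgroup.le_normalizer
      have := ThreeStep.eq_bot_of_normal h3 hp.out (Ne.symm hqp) (V := V.subgroupOf L) inferInstance
        (hVp.of_equiv (Subgroup.subgroupOfEquivOfLe hVL).symm)
      exact hVne (by rw [← Subgroup.map_subgroupOf_eq_of_le hVL, this, Subgroup.map_bot])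

theorem ne_top_of_threeStep {p : ℕ} {M : Subgroup G} (h : Cfsg.IsThreeStepGroup p M) : M ≠ ⊤ := fun e => by
  subst e
  haveI := hG.2.1
  haveI : IsSimpleGroup (⊤ : Subgroup G) := (Subgroup.topEquiv (G := G)).isSimpleGroup
  rcases Subgroup.Normal.eq_bot_or_eq_top (Transfer.pCore_normal' p (⊤ : Subgroup G)) with h' | h'
  · exact h.1 h'
  · exact ThreeStep.pCore_ne_top h h'

theorem no_three_step_aux (hCN : Cfsg.IsCNGroup G) {p : ℕ} [hp : Fact p.Prime] :
    ∀ (k : ℕ) (M : Subgroup G) (P : Sylow p M), Nat.card G ≤ Nat.card (P : Subgroup M) + k →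
      ¬ Cfsg.IsThreeStepGroup p M := by
  intro k
  induction k using Nat.strong_induction_on with
  | _ k ih =>
  intro M P hk h3
  have hW := Invol.isZJFunctor_centerThompsonA.{u} (p := p)
  obtain ⟨j, hj⟩ := IsPGroup.iff_card.1 (Transfer.pCore_isPGroup p M)
  have hpM : p ∣ Nat.card M := by
    rcases j with _ | j
    · exact absurd (Subgroup.eq_bot_of_card_eq _ (hj.trans (pow_zero p))) h3.1
    · exact (dvd_pow_self p j.succ_ne_zero).trans (hj ▸ Subgroup.card_subgroup_dvd_card _)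
  have hpG : p ∣ Nat.card G := hpM.trans M.card_subgroup_dvd_card
  obtain ⟨hp2, hfree⟩ := qdFree hG hpG M
  have hVn : (Cfsg.centerThompsonAOf (P : Subgroup M)).Normal := hW.normal hp2 (ThreeStep.centralizer_le h3)
    (fun V _ hV => Grp.Quad.isPStableOn_of_free hp2 hfree V hV) P (D := (P : Subgroup M)) ⟨le_rfl, fun _ _ _ h => h⟩
  set P' := (P : Subgroup M).map M.subtype with hP'
  have hP'p : IsPGroup p P' := P.isPGroup'.map _
  have hP'c : Nat.card P' = Nat.card (P : Subgroup M) := Subgroup.card_map_of_injective M.subtype_injective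
  have hP'ne : P' ≠ ⊥ := fun e => P.ne_bot_of_dvd_card hpM
    ((Subgroup.map_eq_bot_iff_of_injective _ M.subtype_injective).1 e)
  set V := Cfsg.centerThompsonAOf P' with hV
  set X := Subgroup.normalizer (V : Set G) with hX
  have hMX : M ≤ X := by
    intro m hm
    have h1 := Subgroup.le_normalizer_map (H := Cfsg.centerThompsonAOf (P : Subgroup M)) M.subtype
      ⟨⟨m, hm⟩, (Subgroup.normalizer_eq_top_iff.2 hVn).ge (Subgroup.mem_top _), rfl⟩
    rwa [hW.map M.subtype _ (fun x _ hx => Subtype.ext hx)] at h1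
  have hVne : V ≠ ⊥ := hW.ne_bot hP'p hP'ne
  have hVp : IsPGroup p V := hP'p.to_le (hW.le _)
  have hVX : V ≤ X := Subgroup.le_normalizer
  have hXt : X ≠ ⊤ := normalizer_ne_top hG hVne (ne_top_of_nilpotent hG hVp.isNilpotent)
  have hNX : Subgroup.normalizer (P' : Set G) ≤ X := hW.normalizer_le _
  have hPn : ¬ M ≤ Subgroup.normalizer (P' : Set G) := fun hle => ThreeStep.sylow_not_normal h3 P ⟨fun x hx g => by
    have h1 : (g : G) * x * (g : G)⁻¹ ∈ P' := (Subgroup.mem_normalizer_iff.1 (hle g.2) _).1 ⟨x, hx, rfl⟩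
    obtain ⟨y, hy, hyx⟩ := h1
    rwa [show g * x * g⁻¹ = y from Subtype.ext hyx.symm]⟩
  obtain ⟨S, hS⟩ := hP'p.exists_le_sylow
  rcases eq_or_lt_of_le hS with heq | hlt
  · refine hPn ?_
    have := (sylow_normalizer hG hCN hpG S).1
    rw [← heq] at this
    exact hMX.trans this.le
  have hlt' := Transfer.lt_inf_normalizer S hlt
  -- a larger Sylow subgroup of `X`
  have hP'X : P' ≤ X := (Subgroup.map_subtype_le _).trans hMX
  have hDX : (S : Subgroup G) ⊓ Subgroup.normalizer (P' : Set G) ≤ X := inf_le_right.trans hNX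
  obtain ⟨Q, hQ⟩ := ((S.isPGroup'.to_le (inf_le_left (b := Subgroup.normalizer (P' : Set G)))).of_equiv
    (Subgroup.subgroupOfEquivOfLe hDX).symm).exists_le_sylow
  have hcard : Nat.card (P : Subgroup M) < Nat.card (Q : Subgroup X) := by
    refine lt_of_lt_of_le ?_ (Subgroup.card_le_of_le hQ)
    rw [Nat.card_congr (Subgroup.subgroupOfEquivOfLe hDX).toEquiv, ← hP'c]
    exact lt_of_le_of_ne (Subgroup.card_le_of_le hlt'.le) fun e => hlt'.ne (Subgroup.eq_of_le_of_card_ge hlt'.le e.ge)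
  haveI := hG.2.2.2 X hXt
  rcases trichotomy (subgroup hCN X) with hn | ⟨F, hF⟩ | ⟨q, hq, h3'⟩
  · exact ThreeStep.not_nilpotent h3 (isNilpotent_of_injective (Subgroup.inclusion hMX) (Subgroup.inclusion_injective hMX) hn)
  · haveI := hF.normal
    by_cases hpF : p ∣ Nat.card F
    · -- the Sylow subgroup of `X` is normal
      have hQF : (Q : Subgroup X) ≤ F := fun w hw => by
        obtain ⟨i, hi⟩ := IsPGroup.iff_orderOf.1 Q.isPGroup' ⟨w, hw⟩
        rw [Subgroup.orderOf_mk] at hi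
        refine Transfer.mem_of_pow_mem (F.pow_index_mem w) ?_
        rw [hi]
        exact (hp.out.coprime_iff_not_dvd.2 fun hd => hp.out.not_dvd_one (hF.coprime ▸ Nat.dvd_gcd hpF hd)).pow_left i
      have hQn : (Q : Subgroup X).Normal := by
        haveI := hF.nilpotent
        let QF : Sylow p F := Q.subtype hQF
        haveI : (QF : Subgroup F).Characteristic := QF.characteristic_of_normal inferInstance
        have : ((QF : Subgroup F).map F.subtype).Normal := inferInstance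
        rwa [Sylow.coe_subtype, Subgroup.map_subgroupOf_eq_of_le hQF] at this
      set K := (Q : Subgroup X).comap (Subgroup.inclusion hMX) with hK
      haveI : K.Normal := inferInstance
      have hKp : IsPGroup p K := Q.isPGroup'.comap_of_injective _ (Subgroup.inclusion_injective hMX)
      have hPK : (P : Subgroup M) ≤ K := fun x hx => by
        have : (⟨x, hMX x.2⟩ : X) ∈ (Q : Subgroup X) := hQ ⟨hS ⟨x, hx, rfl⟩, Subgroup.le_normalizer ⟨x, hx, rfl⟩⟩
        exact this
      refine ThreeStep.sylow_not_normal h3 P ?_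
      rw [← P.3 hKp hPK]; infer_instance
    · -- a complement centralises the core
      obtain ⟨hH, A, hA, -, -, hcop, -, -, -, hfpf, -⟩ := h3
      obtain ⟨a, ha, ha1⟩ := A.bot_or_exists_ne_one.resolve_left hA
      obtain ⟨y, hy, hy1⟩ := (Cfsg.pCore p M).bot_or_exists_ne_one.resolve_left hH
      haveI := Kernel.quotient_nilpotent (subgroup hCN X) hF
      set π := (QuotientGroup.mk' F).comp (Subgroup.inclusion hMX) with hπ
      have hc := TypeP.commute_of_coprime_orderOf (F := ⊤) (x := π a) (y := π y) inferInstance (Subgroup.mem_top _)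
        (Subgroup.mem_top _) (Nat.Coprime.coprime_dvd_left (orderOf_map_dvd π a)
          ((ThreeStep.coprime_orderOf hy (hcop.coprime_dvd_left (A.orderOf_dvd_natCard ha))).coprime_dvd_right (orderOf_map_dvd π y)))
      have hz : Subgroup.inclusion hMX (a * y * a⁻¹ * y⁻¹) ∈ F := by
        rw [← QuotientGroup.eq_one_iff]
        show π _ = 1
        rw [map_mul, map_mul, map_mul, map_inv, map_inv, hc, mul_inv_cancel_right, mul_inv_cancel]
      have hzH : a * y * a⁻¹ * y⁻¹ ∈ Cfsg.pCore p M :=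
        mul_mem ((Transfer.pCore_normal' p M).conj_mem y hy a) (inv_mem hy)
      have hz1 : a * y * a⁻¹ * y⁻¹ = 1 := by
        obtain ⟨i, hi⟩ := IsPGroup.iff_orderOf.1 (Transfer.pCore_isPGroup p M) ⟨_, hzH⟩
        rw [Subgroup.orderOf_mk] at hi
        refine orderOf_eq_one_iff.1 (Nat.eq_one_of_dvd_coprimes
          ((hp.out.coprime_iff_not_dvd.2 hpF).pow_left i) (dvd_of_eq hi) ?_)
        rw [← orderOf_injective _ (Subgroup.inclusion_injective hMX)]
        exact F.orderOf_dvd_natCard hz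
      rw [mul_inv_eq_one, mul_inv_eq_iff_eq_mul] at hz1
      exact hy1 (Subgroup.mem_bot.1 (hfpf a ha ha1 ▸ ⟨hy, Subgroup.mem_centralizer_singleton_iff.2 hz1.symm⟩))
  · by_cases hqp : q = p
    · subst hqp
      have := Subgroup.card_subgroup_dvd_card (Q : Subgroup X)
      have h1 : Nat.card (Q : Subgroup X) ≤ Nat.card G :=
        (Nat.le_of_dvd Nat.card_pos this).trans X.card_le_card_group
      exact ih (Nat.card G - Nat.card (Q : Subgroup X)) (by omega) X Q (by omega) h3'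
    · haveI := Fact.mk hq
      haveI : (V.subgroupOf X).Normal := Subgroup.normal_in_normalizer
      have := ThreeStep.eq_bot_of_normal h3' hp.out (Ne.symm hqp) (V := V.subgroupOf X) inferInstance
        (hVp.of_equiv (Subgroup.subgroupOfEquivOfLe hVX).symm)
      exact hVne (by rw [← Subgroup.map_subgroupOf_eq_of_le hVX, this, Subgroup.map_bot])

theorem no_three_step (hCN : Cfsg.IsCNGroup G) (M : Subgroup G) (p : ℕ) : ¬ Cfsg.IsThreeStepGroup p M := fun h => by
  haveI := hG.2.2.2 M (ne_top_of_threeStep hG h)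
  rcases trichotomy (subgroup hCN M) with hn | ⟨F, hF⟩ | ⟨q, hq, h3⟩
  · exact ThreeStep.not_nilpotent h hn
  · exact ThreeStep.no_kernel h (subgroup hCN M) F hF
  · haveI := Fact.mk hq
    obtain ⟨P⟩ : Nonempty (Sylow q M) := inferInstance
    exact no_three_step_aux hG hCN (Nat.card G) M P (Nat.le_add_left _ _) h3

/-- Proper subgroups are nilpotent or Frobenius. -/
theorem dichotomy (hCN : Cfsg.IsCNGroup G) (M : Subgroup G) (hM : M ≠ ⊤) :
    Group.IsNilpotent M ∨ ∃ F : Subgroup M, Kernel F := by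
  haveI := hG.2.2.2 M hM
  rcases trichotomy (subgroup hCN M) with hn | hF | ⟨q, -, h3⟩
  · exact Or.inl hn
  · exact Or.inr hF
  · exact absurd h3 (no_three_step hG hCN M q)

theorem sylow_ti (hCN : Cfsg.IsCNGroup G) {p : ℕ} [hp : Fact p.Prime] (hpG : p ∣ Nat.card G) {S T : Sylow p G}
    (hST : S ≠ T) : (S : Subgroup G) ⊓ T = ⊥ := by
  classical
  obtain ⟨⟨A, B⟩, hAB, hmax⟩ := (Set.toFinite {q : Sylow p G × Sylow p G | q.1 ≠ q.2}).exists_maximalFor
    (fun q => Nat.card ↥((q.1 : Subgroup G) ⊓ q.2)) _ ⟨(S, T), hST⟩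
  by_contra hne
  set D := (A : Subgroup G) ⊓ B with hD
  have hDne : D ≠ ⊥ := fun h => hne (Subgroup.card_eq_one.1 (le_antisymm (by
    by_contra hgt
    have h0 : Nat.card ↥((A : Subgroup G) ⊓ B) = 1 := by rw [← hD, h, Subgroup.card_bot]
    have h1 := hmax (j := (S, T)) hST (by simp only; omega)
    simp only at h1
    omega) Nat.card_pos))
  have hDp : IsPGroup p D := A.isPGroup'.to_le inf_le_left
  set X := Subgroup.normalizer (D : Set G) with hX
  have hXt : X ≠ ⊤ := normalizer_ne_top hG hDne (ne_top_of_nilpotent hG hDp.isNilpotent)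
  have hlt : ∀ C : Sylow p G, D ≤ C → D ≠ (C : Subgroup G) → ∀ C' : Sylow p G, (C : Subgroup G) ⊓ X ≤ C' → C' = C := by
    intro C hle hneq C' hC'
    by_contra hne'
    have h1 := Transfer.lt_inf_normalizer C (lt_of_le_of_ne hle hneq)
    have h2 : Nat.card D < Nat.card ↥((C' : Subgroup G) ⊓ C) := lt_of_lt_of_le
      (lt_of_le_of_ne (Subgroup.card_le_of_le h1.le) fun e => h1.ne (Subgroup.eq_of_le_of_card_ge h1.le e.ge))
      (Subgroup.card_le_of_le (le_inf hC' inf_le_left))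
    have h3 := hmax (j := (C', C)) hne' h2.le
    exact absurd h3 (not_le.2 h2)
  have hDA : D ≠ (A : Subgroup G) := fun h => hAB (Sylow.ext (Subgroup.eq_of_le_of_card_ge (h ▸ inf_le_right)
    (by rw [A.card_eq_multiplicity, B.card_eq_multiplicity])))
  have hDB : D ≠ (B : Subgroup G) := fun h => hAB (Sylow.ext (Subgroup.eq_of_le_of_card_ge (h ▸ inf_le_left)
    (by rw [A.card_eq_multiplicity, B.card_eq_multiplicity])).symm)
  have hsy : ∀ C : Sylow p G, D ≤ C → D ≠ (C : Subgroup G) → ∃ Q : Sylow p X,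
      ((C : Subgroup G) ⊓ X).subgroupOf X ≤ Q ∧ (Q : Subgroup X).map X.subtype ≤ C := by
    intro C hle hneq
    obtain ⟨Q, hQ⟩ := ((C.isPGroup'.to_le (inf_le_left (b := X))).of_equiv
      (Subgroup.subgroupOfEquivOfLe inf_le_right).symm).exists_le_sylow
    obtain ⟨C', hC'⟩ := (Q.isPGroup'.map X.subtype).exists_le_sylow
    refine ⟨Q, hQ, hlt C hle hneq C' (fun w hw => hC' ⟨⟨w, hw.2⟩, hQ hw, rfl⟩) ▸ hC'⟩
  obtain ⟨Q₁, hQ₁, hQ₁'⟩ := hsy A inf_le_left hDA
  obtain ⟨Q₂, hQ₂, -⟩ := hsy B inf_le_right hDB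
  have hnn : ¬ (Q₁ : Subgroup X).Normal := fun hn => by
    haveI := Q₁.unique_of_normal hn
    refine (Transfer.lt_inf_normalizer B (lt_of_le_of_ne inf_le_right hDB)).not_ge fun w hw => ⟨?_, hw.1⟩
    exact hQ₁' ⟨⟨w, hw.2⟩, Subsingleton.elim Q₁ Q₂ ▸ hQ₂ hw, rfl⟩
  rcases dichotomy hG hCN X hXt with hn | ⟨F, hF⟩
  · haveI := hn
    exact hnn inferInstance
  · haveI := hF.normal
    have hpF : ¬ p ∣ Nat.card F := fun h => hnn (hF.sylow_normal h Q₁)
    have hdisj : Disjoint (D.subgroupOf X) F := disjoint_iff.2 (by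
      refine eq_bot_iff.2 fun w hw => Subgroup.mem_bot.2 ?_
      obtain ⟨hwD, hwF⟩ := hw
      have hwD' : (w : G) ∈ D := hwD
      obtain ⟨i, hi⟩ := IsPGroup.iff_orderOf.1 hDp ⟨(w : G), hwD'⟩
      rw [Subgroup.orderOf_mk, Subgroup.orderOf_coe] at hi
      exact orderOf_eq_one_iff.1 (Nat.eq_one_of_dvd_coprimes ((hp.out.coprime_iff_not_dvd.2 hpF).pow_left i)
        (dvd_of_eq hi) (F.orderOf_dvd_natCard hwF)))
    obtain ⟨f, hf, hf1⟩ := F.bot_or_exists_ne_one.resolve_left hF.ne_bot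
    obtain ⟨d, hd, hd1⟩ := D.bot_or_exists_ne_one.resolve_left hDne
    have hdX : d ∈ X := Subgroup.le_normalizer hd
    refine hd1 (congrArg Subtype.val (Subgroup.disjoint_def.1 hdisj (x := ⟨d, hdX⟩) hd
      (hF.centralizer_le hf hf1 (Subgroup.mem_centralizer_singleton_iff.2
        (Subgroup.commute_of_normal_of_disjoint _ F Subgroup.normal_in_normalizer hF.normal hdisj _ f hd hf).eq))))

section MaxNil

variable (hCN : Cfsg.IsCNGroup G) {H : Subgroup G} (hH : MaxNil H)
include hCN hH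

theorem maxNil_ne_bot : H ≠ ⊥ := by
  haveI := hG.2.1
  exact hH.ne_bot

theorem maxNil_ti (g : G) (hg : H.map (MulAut.conj g).toMonoidHom ≠ H) :
    H ⊓ H.map (MulAut.conj g).toMonoidHom = ⊥ := by
  by_cases hpp : IsPrimePow (Nat.card H)
  · obtain ⟨p, n, hp, hn, hc⟩ := (isPrimePow_nat_iff _).1 hpp
    haveI := Fact.mk hp
    have hHp : IsPGroup p H := IsPGroup.of_card hc.symm
    have hidx : ¬ p ∣ H.index := fun hd => hp.not_dvd_one
      ((hH.hall hCN) ▸ Nat.dvd_gcd (hc ▸ dvd_pow_self p hn.ne') hd)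
    let S : Sylow p G := hHp.toSylow hidx
    have hpG : p ∣ Nat.card G := (hc ▸ dvd_pow_self p hn.ne').trans H.card_subgroup_dvd_card
    have hS : ((g • S : Sylow p G) : Subgroup G) = H.map (MulAut.conj g).toMonoidHom := by
      rw [Sylow.coe_subgroup_smul]; rfl
    rw [← hS]
    exact sylow_ti hG hCN hpG (S := S) (T := g • S) fun e => hg (by rw [← hS, ← e]; rfl)
  · refine eq_bot_iff.2 fun x hx => Subgroup.mem_bot.2 ?_
    by_contra hx1
    exact hg (hH.ti hCN hpp (MaxNil.map_conj hH g) hx.1 hx.2 hx1)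

theorem maxNil_cc {x : G} (hx : x ∈ H) (hx1 : x ≠ 1) : Subgroup.centralizer ({x} : Set G) ≤ H :=
  hH.cc hCN (maxNil_ti hG hCN hH) hx hx1

theorem maxNil_mem_normalizer {g x : G} (hx : x ∈ H) (hx1 : x ≠ 1) (hgx : g * x * g⁻¹ ∈ H) :
    g ∈ Subgroup.normalizer (H : Set G) := hH.mem_normalizer_of_ti (maxNil_ti hG hCN hH) hx hx1 hgx

theorem maxNil_not_nilpotent : ¬ Group.IsNilpotent (Subgroup.normalizer (H : Set G)) := fun hn => by
  obtain ⟨p, hp, hd⟩ := Nat.exists_prime_and_dvd (fun h => maxNil_ne_bot hG hCN hH (Subgroup.card_eq_one.1 h))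
  haveI := Fact.mk hp
  haveI := hH.nilpotent
  obtain ⟨Q⟩ : Nonempty (Sylow p H) := inferInstance
  obtain ⟨S, hS⟩ := (Q.isPGroup'.map H.subtype).exists_le_sylow
  have hSH : (S : Subgroup G) ≤ H := by
    have h1 : (Q : Subgroup H).map H.subtype = S := by
      refine Subgroup.eq_of_le_of_card_ge hS ?_
      rw [Subgroup.card_map_of_injective H.subtype_injective, Q.card_eq_multiplicity, S.card_eq_multiplicity,
        ← H.card_mul_index, Nat.factorization_mul Nat.card_pos.ne' H.index_ne_zero_of_finite, Finsupp.add_apply,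
        Nat.factorization_eq_zero_of_not_dvd (fun hi => hp.not_dvd_one ((hH.hall hCN) ▸ Nat.dvd_gcd hd hi)), add_zero]
    exact h1 ▸ Subgroup.map_subtype_le _
  have hpG : p ∣ Nat.card G := hd.trans H.card_subgroup_dvd_card
  obtain ⟨s, hs, hs1⟩ := (S : Subgroup G).bot_or_exists_ne_one.resolve_left (S.ne_bot_of_dvd_card hpG)
  refine (sylow_normalizer hG hCN hpG S).2.1 (Grp.isNilpotent_of_le (fun g hg => ?_) hn)
  exact maxNil_mem_normalizer hG hCN hH (hSH hs) hs1 (hSH ((Subgroup.mem_normalizer_iff.1 hg s).1 hs))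

theorem maxNil_normalizer_ne_top : Subgroup.normalizer (H : Set G) ≠ ⊤ :=
  normalizer_ne_top hG (maxNil_ne_bot hG hCN hH) (ne_top_of_nilpotent hG hH.nilpotent)

theorem maxNil_kernel : Kernel (H.subgroupOf (Subgroup.normalizer (H : Set G))) := by
  rcases dichotomy hG hCN _ (maxNil_normalizer_ne_top hG hCN hH) with hn | ⟨F, hF⟩
  · exact absurd hn (maxNil_not_nilpotent hG hCN hH)
  · have h1 : H.subgroupOf (Subgroup.normalizer (H : Set G)) ≤ F := hF.le_of_normal Subgroup.normal_in_normalizer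
      (isNilpotent_of_injective ((Subgroup.subgroupOfEquivOfLe (Subgroup.le_normalizer (H := H))).toMonoidHom :
        H.subgroupOf (Subgroup.normalizer (H : Set G)) →* H)
        (Subgroup.subgroupOfEquivOfLe (Subgroup.le_normalizer (H := H))).injective hH.nilpotent)
    have h2 := hH.max (F.map (Subgroup.normalizer (H : Set G)).subtype) (Grp.isNilpotent_map hF.nilpotent _)
      (fun h hh => ⟨⟨h, Subgroup.le_normalizer hh⟩, h1 hh, rfl⟩)
    have h3 : F ≤ H.subgroupOf (Subgroup.normalizer (H : Set G)) := fun f hf =>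
      h2.le (show (f : G) ∈ F.map (Subgroup.normalizer (H : Set G)).subtype from ⟨f, hf, rfl⟩)
    rw [le_antisymm h1 h3]
    exact hF

theorem maxNil_coatom : IsCoatom (Subgroup.normalizer (H : Set G)) := by
  refine ⟨maxNil_normalizer_ne_top hG hCN hH, fun M hM => ?_⟩
  by_contra hMt
  have hHM : H ≤ M := Subgroup.le_normalizer.trans hM.le
  refine hM.not_ge ?_
  rcases dichotomy hG hCN M hMt with hn | ⟨F, hF⟩
  · exact (hH.max M hn hHM).le.trans Subgroup.le_normalizer
  haveI := hF.normal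
  by_cases hd : ∃ x : M, (x : G) ∈ H ∧ x ∈ F ∧ x ≠ 1
  · obtain ⟨x, hxH, hxF, hx1⟩ := hd
    have hx1' : (x : G) ≠ 1 := fun e => hx1 (Subtype.ext e)
    obtain ⟨z, hz, hz1, hzc⟩ := exists_center_mem hF.nilpotent (le_refl F) Subgroup.le_normalizer hF.ne_bot
    have hzH : (z : G) ∈ H := maxNil_cc hG hCN hH hxH hx1' (Subgroup.mem_centralizer_singleton_iff.2
      (congrArg Subtype.val (hzc x hxF).eq :))
    have hFH : ∀ f ∈ F, (f : G) ∈ H := fun f hf => maxNil_cc hG hCN hH hzH (fun e => hz1 (Subtype.ext e))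
      (Subgroup.mem_centralizer_singleton_iff.2 (congrArg Subtype.val (hzc f hf).symm.eq :))
    obtain ⟨w, hw, hw1, hwc⟩ := exists_center_mem hH.nilpotent (le_refl H) Subgroup.le_normalizer (maxNil_ne_bot hG hCN hH)
    have hwF : (⟨w, hHM hw⟩ : M) ∈ F := hF.centralizer_le hxF hx1
      (Subgroup.mem_centralizer_singleton_iff.2 (Subtype.ext (hwc x hxH).eq))
    have hHF : ∀ (h : G) (hh : h ∈ H), (⟨h, hHM hh⟩ : M) ∈ F := fun h hh => hF.centralizer_le hwF
      (fun e => hw1 (congrArg Subtype.val e)) (Subgroup.mem_centralizer_singleton_iff.2 (Subtype.ext (hwc h hh).symm.eq))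
    intro m hm
    exact Subgroup.mem_normalizer_fintype fun d hd => hFH _ (hF.normal.conj_mem _ (hHF d hd) ⟨m, hm⟩)
  · push Not at hd
    exfalso
    haveI := Kernel.quotient_nilpotent (subgroup hCN M) hF
    refine maxNil_not_nilpotent hG hCN hH (isNilpotent_of_injective
      ((QuotientGroup.mk' F).comp (Subgroup.inclusion hM.le)) ((injective_iff_map_eq_one _).2 fun y hy => ?_) inferInstance)
    have hyF : Subgroup.inclusion hM.le y ∈ F := (QuotientGroup.eq_one_iff _).1 hy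
    obtain ⟨h, hh, hh1⟩ := H.bot_or_exists_ne_one.resolve_left (maxNil_ne_bot hG hCN hH)
    have hc : (y : G) * h * (y : G)⁻¹ * h⁻¹ = 1 := by
      have h1 : ((Subgroup.inclusion hM.le y * ⟨h, hHM hh⟩ * (Subgroup.inclusion hM.le y)⁻¹ * (⟨h, hHM hh⟩ : M)⁻¹ : M) : G) ∈ H := mul_mem ((Subgroup.mem_normalizer_iff.1 y.2 h).1 hh) (inv_mem hh)
      have h2 := hd (Subgroup.inclusion hM.le y * ⟨h, hHM hh⟩ * (Subgroup.inclusion hM.le y)⁻¹ * (⟨h, hHM hh⟩ : M)⁻¹) h1 (by
        rw [show Subgroup.inclusion hM.le y * ⟨h, hHM hh⟩ * (Subgroup.inclusion hM.le y)⁻¹ * (⟨h, hHM hh⟩ : M)⁻¹ =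
          Subgroup.inclusion hM.le y * (⟨h, hHM hh⟩ * (Subgroup.inclusion hM.le y)⁻¹ * (⟨h, hHM hh⟩ : M)⁻¹) by group]
        exact F.mul_mem hyF (hF.normal.conj_mem _ (F.inv_mem hyF) _))
      exact (congrArg Subtype.val h2 :)
    rw [mul_inv_eq_one, mul_inv_eq_iff_eq_mul] at hc
    have hyH : (y : G) ∈ H := maxNil_cc hG hCN hH hh hh1 (Subgroup.mem_centralizer_singleton_iff.2 hc)
    exact Subtype.ext (congrArg Subtype.val (hd (Subgroup.inclusion hM.le y) hyH hyF) :)

omit hG in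
theorem maxNil_exists_sylow_le {p : ℕ} [hp : Fact p.Prime] (hd : p ∣ Nat.card H) : ∃ S : Sylow p G, (S : Subgroup G) ≤ H := by
  obtain ⟨Q⟩ : Nonempty (Sylow p H) := inferInstance
  obtain ⟨S, hS⟩ := (Q.isPGroup'.map H.subtype).exists_le_sylow
  refine ⟨S, ?_⟩
  have h1 : (Q : Subgroup H).map H.subtype = S := by
    refine Subgroup.eq_of_le_of_card_ge hS ?_
    rw [Subgroup.card_map_of_injective H.subtype_injective, Q.card_eq_multiplicity, S.card_eq_multiplicity,
      ← H.card_mul_index, Nat.factorization_mul Nat.card_pos.ne' H.index_ne_zero_of_finite, Finsupp.add_apply,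
      Nat.factorization_eq_zero_of_not_dvd (fun hi => hp.out.not_dvd_one ((hH.hall hCN) ▸ Nat.dvd_gcd hd hi)), add_zero]
  exact h1 ▸ Subgroup.map_subtype_le _

theorem maxNil_conj_or_coprime {K : Subgroup G} (hK : MaxNil K) :
    (∃ g : G, K = H.map (MulAut.conj g).toMonoidHom) ∨ (Nat.card H).Coprime (Nat.card K) := by
  by_contra hne
  push Not at hne
  obtain ⟨hne, hc⟩ := hne
  refine hc (Nat.coprime_of_dvd fun p hp h1 h2 => ?_)
  haveI := Fact.mk hp
  obtain ⟨S, hS⟩ := maxNil_exists_sylow_le hCN hH h1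
  obtain ⟨T, hT⟩ := maxNil_exists_sylow_le hCN hK h2
  obtain ⟨g, rfl⟩ := MulAction.exists_smul_eq G S T
  refine hne g (Eq.symm ?_)
  obtain ⟨s, hs, hs1⟩ := (S : Subgroup G).bot_or_exists_ne_one.resolve_left
    (S.ne_bot_of_dvd_card (h1.trans H.card_subgroup_dvd_card))
  have hx1 : g * s * g⁻¹ ≠ 1 := fun e => hs1 (conj_eq_one_iff.1 e)
  have hxK : g * s * g⁻¹ ∈ K := hT (by
    rw [Sylow.coe_subgroup_smul]
    exact ⟨s, hs, by simp⟩)
  have hxH : g * s * g⁻¹ ∈ H.map (MulAut.conj g).toMonoidHom := ⟨s, hS hs, by simp⟩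
  have hH' := MaxNil.map_conj hH g
  obtain ⟨z, hz, hz1, hzc⟩ := exists_center_mem hK.nilpotent (le_refl K) Subgroup.le_normalizer (maxNil_ne_bot hG hCN hK)
  have hzH : z ∈ H.map (MulAut.conj g).toMonoidHom := maxNil_cc hG hCN hH' hxH hx1
    (Subgroup.mem_centralizer_singleton_iff.2 (hzc _ hxK).eq)
  exact hK.max _ hH'.nilpotent fun k hk => maxNil_cc hG hCN hH' hzH hz1
    (Subgroup.mem_centralizer_singleton_iff.2 (hzc k hk).symm.eq)

theorem maxNil_complement : ∃ E : Subgroup G, Cfsg.IsComplIn H E (Subgroup.normalizer (H : Set G)) ∧ E ≠ ⊥ ∧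
    ∀ e ∈ E, e ≠ 1 → H ⊓ Subgroup.centralizer ({e} : Set G) = ⊥ := by
  set N := Subgroup.normalizer (H : Set G) with hN
  obtain ⟨E, hE, hE1, -, hfix, -⟩ := (maxNil_kernel hG hCN hH).exists_complement
  have hHN : H ≤ N := Subgroup.le_normalizer
  refine ⟨E.map N.subtype, ⟨hHN, Subgroup.map_subtype_le _, ?_, fun m hm => ?_⟩,
    fun h => hE1 ((Subgroup.map_eq_bot_iff_of_injective _ N.subtype_injective).1 h), ?_⟩
  · refine eq_bot_iff.2 ?_
    rintro _ ⟨hwH, w, hwE, rfl⟩
    exact Subgroup.mem_bot.2 (congrArg Subtype.val (Subgroup.disjoint_def.1 hE.disjoint hwH hwE) :)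
  · obtain ⟨⟨⟨a, ha⟩, ⟨b, hb⟩⟩, hab⟩ := hE.2 ⟨m, hm⟩
    exact ⟨(a : G), ha, (b : G), ⟨b, hb, rfl⟩, (congrArg Subtype.val hab :).symm⟩
  · rintro _ ⟨e, he, rfl⟩ he1
    refine eq_bot_iff.2 ?_
    rintro f ⟨hf, hfe⟩
    have h1 : (⟨f, hHN hf⟩ : N) ∈ H.subgroupOf N ⊓ Subgroup.centralizer ({e} : Set N) := ⟨hf,
      Subgroup.mem_centralizer_singleton_iff.2 (Subtype.ext (Subgroup.mem_centralizer_singleton_iff.1 hfe))⟩
    rw [hfix e he (fun h => he1 (by rw [h, map_one])), Subgroup.mem_bot] at h1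
    exact Subgroup.mem_bot.2 (congrArg Subtype.val h1 :)

theorem maxNil_fittingHallOf : Cfsg.fittingHallOf (Subgroup.normalizer (H : Set G)) = H := by
  rw [Cfsg.fittingHallOf, (maxNil_kernel hG hCN hH).fittingHall_eq, Subgroup.map_subgroupOf_eq_of_le Subgroup.le_normalizer]

end MaxNil

/-- Every maximal subgroup is the normalizer of a maximal nilpotent subgroup. -/
theorem coatom_eq (hCN : Cfsg.IsCNGroup G) {M : Subgroup G} (hM : IsCoatom M) :
    ∃ H : Subgroup G, MaxNil H ∧ M = Subgroup.normalizer (H : Set G) := by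
  rcases dichotomy hG hCN M hM.1 with hn | ⟨F', hF⟩
  · exfalso
    obtain ⟨H, hH, hle⟩ := exists_maxNil hn
    have h1 : H = M := by
      rcases eq_or_lt_of_le hle with h | h
      · exact h.symm
      · exact absurd (hM.2 H h) (ne_top_of_nilpotent hG hH.nilpotent)
    subst h1
    rcases eq_or_lt_of_le (Subgroup.le_normalizer (H := H)) with h | h
    · exact maxNil_not_nilpotent hG hCN hH (h ▸ hH.nilpotent)
    · exact maxNil_normalizer_ne_top hG hCN hH (hM.2 _ h)
  · haveI := hF.normal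
    set F := F'.map M.subtype with hFdef
    have hFn : Group.IsNilpotent F := Grp.isNilpotent_map hF.nilpotent _
    have hFne : F ≠ ⊥ := fun h => hF.ne_bot ((Subgroup.map_eq_bot_iff_of_injective _ M.subtype_injective).1 h)
    have hMN : M ≤ Subgroup.normalizer (F : Set G) := fun m hm => Subgroup.mem_normalizer_fintype fun d hd => by
      obtain ⟨f, hf, rfl⟩ := hd
      exact ⟨⟨m, hm⟩ * f * ⟨m, hm⟩⁻¹, hF.normal.conj_mem f hf _, rfl⟩
    have hNF : Subgroup.normalizer (F : Set G) = M := by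
      rcases eq_or_lt_of_le hMN with h | h
      · exact h.symm
      · exact absurd (hM.2 _ h) (normalizer_ne_top hG hFne (ne_top_of_nilpotent hG hFn))
    obtain ⟨H, hH, hle⟩ := exists_maxNil hFn
    refine ⟨H, hH, ?_⟩
    suffices hFH : F = H by rw [← hFH, hNF]
    by_contra hne
    have hlt := Grp.lt_inf_normalizer hH.nilpotent (lt_of_le_of_ne hle hne)
    obtain ⟨w, hw, hw1, hwc⟩ := exists_center_mem (K := H ⊓ Subgroup.normalizer (F : Set G))
      (Grp.isNilpotent_of_le inf_le_left hH.nilpotent) hlt.le inf_le_right hFne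
    refine hlt.not_ge fun x hx => ?_
    obtain ⟨w', hw', rfl⟩ := hw
    have hxM : x ∈ M := hNF ▸ hx.2
    refine ⟨⟨x, hxM⟩, hF.centralizer_le hw' (fun e => hw1 (by rw [e, map_one])) ?_, rfl⟩
    exact Subgroup.mem_centralizer_singleton_iff.2 (Subtype.ext (hwc x hx).symm.eq)

end MinSimple

end Cfsg.Agent.Transfer.CN
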