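import Cfsg.Agent.Lib.Transfer.CN.Basic
import Cfsg.Agent.Lib.Grp.Zassenhaus.Basics
import Cfsg.Agent.Lib.Grp.FrobeniusTower

/-!
Solvable CN-groups: nilpotent, Frobenius, or three-step.
-/

set_option autoImplicit false
set_option linter.style.haveILetI false
set_option maxHeartbeats 1000000

open scoped Pointwise commutatorElement

universe u

namespace Cfsg.Agent.Transfer.CN

open Cfsg.Agent

variable {G : Type u} [Group G] [Finite G]

/-- A proper nontrivial normal nilpotent subgroup on which the outside acts fixed-point-freely. -/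
structure Kernel (N : Subgroup G) : Prop where
  normal : N.Normal
  nilpotent : Group.IsNilpotent N
  ne_bot : N ≠ ⊥
  ne_top : N ≠ ⊤
  fpf : ∀ x, x ∉ N → ∀ f ∈ N, Commute x f → f = 1

theorem exists_center_mem {K : Subgroup G} (hK : Group.IsNilpotent K) {M : Subgroup G} (hMK : M ≤ K)
    (hn : K ≤ Subgroup.normalizer (M : Set G)) (hM : M ≠ ⊥) :
    ∃ w ∈ M, w ≠ 1 ∧ ∀ k ∈ K, Commute w k := by
  haveI := hK
  haveI : (M.subgroupOf K).Normal := Subgroup.normal_subgroupOf_of_le_normalizer hn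
  obtain ⟨z, hz⟩ := Subgroup.ne_bot_iff_exists_ne_one.1 (Grp.inf_center_ne_bot (M.subgroupOf K) (fun h => hM (by
    rw [← Subgroup.map_subgroupOf_eq_of_le hMK, h, Subgroup.map_bot])))
  exact ⟨((z : K) : G), z.2.1, fun e => hz (Subtype.ext (Subtype.ext e)), fun k hk =>
    (congrArg Subtype.val (Subgroup.mem_center_iff.1 z.2.2 ⟨k, hk⟩)).symm⟩

namespace Kernel

variable {N : Subgroup G} (hN : Kernel N)
include hN

theorem centralizer_le {f : G} (hf : f ∈ N) (hf1 : f ≠ 1) : Subgroup.centralizer ({f} : Set G) ≤ N :=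
  fun x hx => by
    by_contra hxN
    exact hf1 (hN.fpf x hxN f hf (Subgroup.mem_centralizer_singleton_iff.1 hx))

theorem coprime : (Nat.card N).Coprime N.index := by
  haveI := hN.normal
  refine Nat.coprime_of_dvd fun q hq h1 h2 => ?_
  haveI := Fact.mk hq
  obtain ⟨Q⟩ : Nonempty (Sylow q G) := inferInstance
  obtain ⟨y, hy⟩ := exists_prime_orderOf_dvd_card' q h1
  rw [← Subgroup.orderOf_coe] at hy
  have hyp : IsPGroup q (Subgroup.zpowers (y : G)) := IsPGroup.of_card (n := 1) (by rw [Nat.card_zpowers, hy, pow_one])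
  obtain ⟨R, hR⟩ := hyp.exists_le_sylow
  have hne : (R : Subgroup G) ⊓ N ≠ ⊥ := fun h => hq.ne_one (by
    have : (y : G) ∈ (R : Subgroup G) ⊓ N := ⟨hR (Subgroup.mem_zpowers _), y.2⟩
    rw [h, Subgroup.mem_bot] at this
    rw [← hy, this, orderOf_one])
  obtain ⟨w, hw, hw1, hwc⟩ := exists_center_mem R.isPGroup'.isNilpotent inf_le_left (fun r hr => by
    refine Subgroup.mem_normalizer_fintype fun d hd => ⟨?_, hN.normal.conj_mem d hd.2 r⟩
    exact (R : Subgroup G).mul_mem ((R : Subgroup G).mul_mem hr hd.1) ((R : Subgroup G).inv_mem hr)) hne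
  have hRN : (R : Subgroup G) ≤ N := fun r hr => by
    by_contra hrN
    exact hw1 (hN.fpf r hrN w hw.2 (hwc r hr).symm)
  exact R.not_dvd_index (h2.trans (Subgroup.index_dvd_of_le hRN))

theorem le_of_normal {K : Subgroup G} (hKn : K.Normal) (hK : Group.IsNilpotent K) : K ≤ N := by
  haveI := hN.normal
  haveI := hKn
  intro x hx
  by_contra hxN
  by_cases hinf : K ⊓ N = ⊥
  · obtain ⟨f, hf, hf1⟩ := N.bot_or_exists_ne_one.resolve_left hN.ne_bot
    refine hf1 (hN.fpf x hxN f hf ?_)
    exact Subgroup.commute_of_normal_of_disjoint K N hKn hN.normal (disjoint_iff.2 hinf) x f hx hf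
  · obtain ⟨w, hw, hw1, hwc⟩ := exists_center_mem hK inf_le_left Subgroup.le_normalizer_of_normal hinf
    exact hw1 (hN.fpf x hxN w hw.2 (hwc x hx).symm)

theorem fittingHall_eq : Cfsg.fittingHall G = N :=
  le_antisymm (sSup_le fun _ h => hN.le_of_normal h.1 h.2.1) (le_sSup ⟨hN.normal, hN.nilpotent, hN.coprime⟩)

theorem exists_complement : ∃ E : Subgroup G, Subgroup.IsComplement' N E ∧ E ≠ ⊥ ∧ Cfsg.IsFrobeniusComplement E ∧
    (∀ e ∈ E, e ≠ 1 → N ⊓ Subgroup.centralizer ({e} : Set G) = ⊥) ∧ Grp.Zas.HasFpf.{u, u} E := by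
  haveI := hN.normal
  obtain ⟨E, hE⟩ := Subgroup.exists_right_complement'_of_coprime hN.coprime
  have hE1 : E ≠ ⊥ := fun h => hN.ne_top (by rw [h] at hE; exact Subgroup.isComplement'_bot_right.1 hE)
  have hfix : ∀ e ∈ E, e ≠ 1 → N ⊓ Subgroup.centralizer ({e} : Set G) = ⊥ := fun e he he1 =>
    eq_bot_iff.2 fun f hf => Subgroup.mem_bot.2 (hN.fpf e (fun h => he1 (Subgroup.disjoint_def.1 hE.disjoint h he))
      f hf.1 (Subgroup.mem_centralizer_singleton_iff.1 hf.2).symm)
  have hFC := Grp.Zas.isFrobeniusComplement_of_isComplement' hE hN.ne_bot hE1 hfix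
  exact ⟨E, hE, hE1, hFC, hfix, Grp.Zas.hasFpf_of_complement hFC⟩

end Kernel

/-- A CN-group with a fixed-point-free representation is nilpotent. -/
theorem isNilpotent_of_hasFpf (hCN : Cfsg.IsCNGroup G) (h : Grp.Zas.HasFpf.{u, u} G) : Group.IsNilpotent G := by
  rcases subsingleton_or_nontrivial G with hs | hn
  · exact Group.isNilpotent_of_subsingleton
  obtain ⟨z, hz⟩ := Subgroup.ne_bot_iff_exists_ne_one.1 h.center_ne_bot
  have := hCN z (fun e => hz (Subtype.ext e))
  rw [show Subgroup.centralizer ({(z : G)} : Set G) = ⊤ from eq_top_iff.2 fun g _ =>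
    Subgroup.mem_centralizer_singleton_iff.2 (Subgroup.mem_center_iff.1 z.2 g)] at this
  exact Group.nilpotent_of_mulEquiv Subgroup.topEquiv

theorem Kernel.complement_nilpotent (hCN : Cfsg.IsCNGroup G) {N E : Subgroup G} (hE : Subgroup.IsComplement' N E)
    (hf : Grp.Zas.HasFpf.{u, u} E) : Group.IsNilpotent E :=
  isNilpotent_of_hasFpf (subgroup hCN E) hf

theorem Kernel.quotient_nilpotent (hCN : Cfsg.IsCNGroup G) {N : Subgroup G} [N.Normal] (hN : Kernel N) :
    Group.IsNilpotent (G ⧸ N) := by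
  obtain ⟨E, hE, -, -, -, hf⟩ := hN.exists_complement
  haveI := Kernel.complement_nilpotent hCN hE hf
  exact Group.nilpotent_of_mulEquiv hE.symm.QuotientMulEquiv.symm

/-- A nonnilpotent CN-group with a nontrivial normal Sylow subgroup has a kernel. -/
theorem kernel_of_normal_sylow (hCN : Cfsg.IsCNGroup G) (hnn : ¬ Group.IsNilpotent G) {p : ℕ} [hp : Fact p.Prime]
    (P : Sylow p G) (hPn : (P : Subgroup G).Normal) (hP1 : (P : Subgroup G) ≠ ⊥) :
    Kernel (Cfsg.fittingSubgroup G) := by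
  haveI := hPn
  have hPF : (P : Subgroup G) ≤ Cfsg.fittingSubgroup G := Grp.le_fittingSubgroup hPn P.isPGroup'.isNilpotent
  have hFn : Group.IsNilpotent (Cfsg.fittingSubgroup G) := Grp.fittingSubgroup_isNilpotent
  obtain ⟨z, hz, hz1⟩ := (P : Subgroup G).bot_or_exists_ne_one.resolve_left hP1
  have hCP : Subgroup.centralizer ((P : Subgroup G) : Set G) ≤ Cfsg.fittingSubgroup G :=
    Grp.le_fittingSubgroup Subgroup.normal_centralizer (Grp.isNilpotent_of_le
      (fun c hc => Subgroup.mem_centralizer_singleton_iff.2 (Subgroup.mem_centralizer_iff.1 hc z hz).symm) (hCN z hz1))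
  have hpow : ∀ {w : G}, w ∈ (P : Subgroup G) → ∃ i, orderOf w = p ^ i := fun {w} hw => by
    obtain ⟨i, hi⟩ := IsPGroup.iff_orderOf.1 P.isPGroup' ⟨w, hw⟩
    exact ⟨i, by rwa [Subgroup.orderOf_mk] at hi⟩
  have hnp : ∀ y : G, ¬ p ∣ orderOf y → (orderOf y).Coprime (Nat.card (P : Subgroup G)) := fun y hy => by
    obtain ⟨i, hi⟩ := IsPGroup.iff_card.1 P.isPGroup'
    rw [hi]
    exact ((hp.out.coprime_iff_not_dvd.2 hy).symm).pow_right i
  have hmemP : ∀ y : G, (∃ i, orderOf y = p ^ i) → y ∈ (P : Subgroup G) := fun y ⟨i, hi⟩ => by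
    obtain ⟨Q, hQ⟩ := (IsPGroup.of_card (n := i) (by rw [Nat.card_zpowers, hi]) :
      IsPGroup p (Subgroup.zpowers y)).exists_le_sylow
    haveI := P.unique_of_normal hPn
    rw [← Subsingleton.elim Q P]
    exact hQ (Subgroup.mem_zpowers y)
  refine ⟨Grp.fittingSubgroup_isNormal, hFn, fun h => hP1 (le_bot_iff.1 (h ▸ hPF)), fun h => hnn ?_, ?_⟩
  · rw [h] at hFn
    exact Group.nilpotent_of_mulEquiv Subgroup.topEquiv
  intro x hx f hf hxf
  by_contra hf1
  obtain ⟨r, hr, y, ⟨i, hy⟩, hyx, hyF⟩ : ∃ r, r.Prime ∧ ∃ y, (∃ i, orderOf y = r ^ i) ∧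
      y ∈ Subgroup.zpowers x ∧ y ∉ Cfsg.fittingSubgroup G := by
    by_contra hne
    push Not at hne
    exact hx (Transfer.prime_parts x _ hne)
  have hyf : Commute y f := by
    obtain ⟨s, rfl⟩ := hyx
    exact hxf.zpow_left s
  have hyp : ¬ p ∣ orderOf y := fun hd => hyF (hPF (hmemP y ⟨i, by
    rw [hy] at hd ⊢; rw [(Nat.prime_dvd_prime_iff_eq hp.out hr).1 (hp.out.dvd_of_dvd_pow hd)]⟩))
  obtain ⟨s, hs, f', ⟨j, hf'⟩, hf'f, hf'1⟩ : ∃ s, s.Prime ∧ ∃ f', (∃ j, orderOf f' = s ^ j) ∧
      f' ∈ Subgroup.zpowers f ∧ f' ≠ 1 := by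
    by_contra hne
    push Not at hne
    exact hf1 (Subgroup.mem_bot.1 (Transfer.prime_parts f ⊥ fun q hq w hw hwf => Subgroup.mem_bot.2 (hne q hq w hw hwf)))
  have hyf' : Commute y f' := by
    obtain ⟨t, rfl⟩ := hf'f
    exact hyf.zpow_right t
  refine hyF (hCP (Subgroup.mem_centralizer_iff.2 fun w hw => ?_))
  by_cases hsp : s = p
  · subst hsp
    exact ((commute_all hCN P.isPGroup'.isNilpotent (hnp y hyp) (hmemP f' ⟨j, hf'⟩) hf'1 hyf') w hw).symm.eq
  · obtain ⟨t, ht⟩ := hpow hw
    have hwf : Commute w f' := (TypeP.commute_of_coprime_orderOf hFn (hPF hw)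
      ((Subgroup.zpowers_le.2 hf) hf'f) (by rw [ht, hf']; exact Nat.Coprime.pow _ _ ((Nat.coprime_primes hp.out hs).2 (Ne.symm hsp))))
    exact (commute_of hCN hf'1 hyf' hwf (by rw [ht]; exact ((hp.out.coprime_iff_not_dvd.2 hyp).symm).pow_right t)).symm.eq

/-- The shape of a nilpotent fixed-point-free group. -/
theorem cyclic_or_quaternion {E : Type u} [Group E] [Finite E] (hn : Group.IsNilpotent E) (hf : Grp.Zas.HasFpf.{u, u} E) :
    IsCyclic E ∨ ∃ C Q : Subgroup E, C ⊔ Q = ⊤ ∧ (∀ a ∈ C, ∀ b ∈ Q, a * b = b * a) ∧ IsCyclic C ∧ Odd (Nat.card C) ∧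
      ∃ n : ℕ, Nonempty (↥Q ≃* QuaternionGroup (2 ^ n)) := by
  haveI := hn
  haveI : Fact (Nat.Prime 2) := ⟨Nat.prime_two⟩
  obtain ⟨Q⟩ : Nonempty (Sylow 2 E) := inferInstance
  rcases hf.sylow_cases Q with hc | ⟨-, n, hn'⟩
  · left
    haveI : IsZGroup E := ⟨fun r hr R => by
      haveI := Fact.mk hr
      by_cases h2 : r = 2
      · subst h2
        haveI := (inferInstance : (Q : Subgroup E).Normal)
        haveI := Q.unique_of_normal inferInstance
        rw [Subsingleton.elim R Q]; exact hc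
      · exact hf.sylow_cyclic h2 R⟩
    infer_instance
  · right
    obtain ⟨C, hC⟩ := Subgroup.exists_right_complement'_of_coprime (Sylow.card_coprime_index Q)
    have hodd : Odd (Nat.card C) := by
      rw [← hC.symm.index_eq_card, Nat.odd_iff, ← Nat.two_dvd_ne_zero]
      exact Q.not_dvd_index
    refine ⟨C, Q, by rw [sup_comm]; exact hC.sup_eq_top, fun a ha b hb => ?_, ?_, hodd, n, hn'⟩
    · refine (TypeP.commute_of_coprime_orderOf (F := ⊤) inferInstance (Subgroup.mem_top a) (Subgroup.mem_top b) ?_)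
      obtain ⟨i, hi⟩ := IsPGroup.iff_orderOf.1 Q.isPGroup' ⟨b, hb⟩
      rw [Subgroup.orderOf_mk] at hi
      rw [hi]
      exact ((Nat.coprime_two_right.2 hodd).coprime_dvd_left (C.orderOf_dvd_natCard ha)).pow_right i
    · haveI : IsZGroup C := ⟨fun r hr R => by
        haveI := Fact.mk hr
        by_cases h2 : r = 2
        · subst h2
          have hR1 : Nat.card (R : Subgroup C) = 1 := by
            rw [R.card_eq_multiplicity, Nat.factorization_eq_zero_of_not_dvd (fun h => (Nat.not_even_iff_odd.2 hodd) (even_iff_two_dvd.2 h)), pow_zero]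
          haveI := (Nat.card_eq_one_iff_unique.1 hR1).1
          infer_instance
        · exact (hf.of_injective C.subtype C.subtype_injective).sylow_cyclic h2 R⟩
      infer_instance

/-- Solvable nonnilpotent CN-groups without a normal Sylow subgroup are three-step groups. -/
theorem three_step [Group.IsSolvable G] [Nontrivial G] (hCN : Cfsg.IsCNGroup G)
    (hnS : ∀ (r : ℕ) (_ : Fact r.Prime) (P : Sylow r G), (P : Subgroup G).Normal → (P : Subgroup G) = ⊥) :
    ∃ p : ℕ, p.Prime ∧ Cfsg.IsThreeStepGroup p G := by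
  obtain ⟨p, hp, M, hMn, -, hM1, hMp⟩ := exists_normal_pGroup (⊤ : Subgroup G) inferInstance top_ne_bot
  haveI := Fact.mk hp
  refine ⟨p, hp, ?_⟩
  set H := Cfsg.pCore p G with hHdef
  haveI : H.Normal := Grp.pCore_isNormal
  have hHp : IsPGroup p H := Grp.pCore_isPGroup
  have hH1 : H ≠ ⊥ := fun h => hM1 (le_bot_iff.1 (h ▸ Grp.le_pCore hMn hMp))
  have hHcard : ∃ j, Nat.card H = p ^ j := IsPGroup.iff_card.1 hHp
  obtain ⟨j, hj⟩ := hHcard
  -- no normal `p'`-subgroup
  have hK : Cfsg.pPrimeCore p G = ⊥ := by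
    by_contra hK
    haveI : (Cfsg.pPrimeCore p G).Normal := Grp.pPrimeCore_isNormal
    obtain ⟨q, hq, O, hOn, hOK, hO1, hOq⟩ := exists_normal_pGroup (Cfsg.pPrimeCore p G) inferInstance hK
    haveI := Fact.mk hq
    haveI := hOn
    have hOcop : (Nat.card O).Coprime p := (Grp.pPrimeCore_coprime).coprime_dvd_left (Subgroup.card_dvd_of_le hOK)
    have hOH : O ≤ Subgroup.centralizer (H : Set G) := Grp.commute_of_coprime_normal (by rw [hj]; exact hOcop.pow_right j)
    have hPO : ∀ P : Sylow p G, (P : Subgroup G) ≤ Subgroup.centralizer (O : Set G) := fun P x hx => by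
      obtain ⟨w, hw, hw1, hwc⟩ := exists_center_mem P.isPGroup'.isNilpotent (Grp.pCore_le_sylow P)
        Subgroup.le_normalizer_of_normal hH1
      refine Subgroup.mem_centralizer_iff.2 fun o ho => ?_
      obtain ⟨i, hi⟩ := IsPGroup.iff_orderOf.1 P.isPGroup' ⟨x, hx⟩
      rw [Subgroup.orderOf_mk] at hi
      exact (commute_of hCN hw1 (show Commute o w from (Subgroup.mem_centralizer_iff.1 (hOH ho) w hw).symm)
        (hwc x hx).symm (by rw [hi]; exact (hOcop.coprime_dvd_left (O.orderOf_dvd_natCard ho)).pow_right i)).eq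
    obtain ⟨v, hv, hv1⟩ := O.bot_or_exists_ne_one.resolve_left hO1
    obtain ⟨P⟩ : Nonempty (Sylow p G) := inferInstance
    haveI hCn : Group.IsNilpotent (Subgroup.centralizer (O : Set G)) := Grp.isNilpotent_of_le
      (fun c hc => Subgroup.mem_centralizer_singleton_iff.2 (Subgroup.mem_centralizer_iff.1 hc v hv).symm) (hCN v hv1)
    have h1 := Sylow.normalizer_sup_eq_top (P.subtype (hPO P))
    have hmap : ((P.subtype (hPO P) : Sylow p _) : Subgroup _).map (Subgroup.centralizer (O : Set G)).subtype = P := by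
      rw [Sylow.coe_subtype, Subgroup.map_subgroupOf_eq_of_le (hPO P)]
    rw [hmap] at h1
    have h2 : Subgroup.centralizer (O : Set G) ≤ Subgroup.normalizer ((P : Subgroup G) : Set G) := by
      intro c hc
      refine Subgroup.mem_normalizer_fintype fun d hd => ?_
      have hn : ((P.subtype (hPO P) : Sylow p (Subgroup.centralizer (O : Set G))) : Subgroup (Subgroup.centralizer (O : Set G))).Normal :=
        inferInstance
      rw [Sylow.coe_subtype] at hn
      have := hn.conj_mem ⟨d, hPO P hd⟩ hd ⟨c, hc⟩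
      exact this
    have hPn : (P : Subgroup G).Normal := by
      rw [← Subgroup.normalizer_eq_top_iff, eq_top_iff, ← h1]
      exact sup_le le_rfl h2
    exact hH1 (le_bot_iff.1 ((Grp.pCore_le_sylow P).trans (hnS p inferInstance P hPn).le))
  have hCH : Subgroup.centralizer (H : Set G) ≤ H := Grp.centralizer_pCore_le hK
  have hHsylow : ¬ p ∣ H.index → False := fun h => by
    let P : Sylow p G := hHp.toSylow h
    exact hH1 (hnS p inferInstance P (by show H.Normal; infer_instance))
  have hCNq : Cfsg.IsCNGroup (G ⧸ H) := quotient hCN H inferInstance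
  set π := QuotientGroup.mk' H with hπ
  set F := Cfsg.fittingSubgroup (G ⧸ H) with hF
  haveI : F.Normal := Grp.fittingSubgroup_isNormal
  haveI hFn : Group.IsNilpotent F := Grp.fittingSubgroup_isNilpotent
  have hCF : Subgroup.centralizer (F : Set (G ⧸ H)) ≤ F := Grp.centralizer_fittingSubgroup_le
  -- the Fitting subgroup of the quotient has order prime to `p`
  have hO1 : Cfsg.pCore p (G ⧸ H) = ⊥ := by
    haveI : (Cfsg.pCore p (G ⧸ H)).Normal := Grp.pCore_isNormal
    have hle : (Cfsg.pCore p (G ⧸ H)).comap π ≤ H := Grp.le_pCore inferInstance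
      ((Grp.pCore_isPGroup (G := G ⧸ H)).comap_of_ker_isPGroup π (by rw [hπ, QuotientGroup.ker_mk']; exact hHp))
    rw [eq_bot_iff, ← Subgroup.map_comap_eq_self_of_surjective (QuotientGroup.mk'_surjective H) (Cfsg.pCore p (G ⧸ H))]
    refine (Subgroup.map_mono hle).trans ?_
    rw [QuotientGroup.map_mk'_self]
  have hFp : (Nat.card F).Coprime p := by
    refine (hp.coprime_iff_not_dvd.2 fun hd => ?_).symm
    obtain ⟨P⟩ : Nonempty (Sylow p F) := inferInstance
    haveI : (P : Subgroup F).Characteristic := P.characteristic_of_normal inferInstance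
    have : (P : Subgroup F).map F.subtype ≤ Cfsg.pCore p (G ⧸ H) := Grp.le_pCore inferInstance (P.isPGroup'.map _)
    rw [hO1, le_bot_iff, Subgroup.map_eq_bot_iff_of_injective _ F.subtype_injective] at this
    exact P.ne_bot_of_dvd_card hd this
  set W := F.comap π with hW
  have hHW : H ≤ W := fun h hh => by
    show π h ∈ F
    rw [show π h = 1 from (QuotientGroup.eq_one_iff h).2 hh]; exact one_mem _
  have hmapW : W.map π = F := Subgroup.map_comap_eq_self_of_surjective (QuotientGroup.mk'_surjective H) F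
  set H' := H.subgroupOf W
  have hcardH' : Nat.card H' = p ^ j := by rw [Nat.card_congr (Subgroup.subgroupOfEquivOfLe hHW).toEquiv, hj]
  have hidx : H'.index = Nat.card F := by
    rw [← hmapW, ← Subgroup.relIndex_ker, hπ, QuotientGroup.ker_mk']; rfl
  obtain ⟨A', hA'⟩ := Subgroup.exists_right_complement'_of_coprime (N := H')
    (by rw [hcardH', hidx]; exact (hFp.symm).pow_left j)
  set A := A'.map W.subtype with hA
  have hAcard : Nat.card A = Nat.card F := by
    rw [hA, Subgroup.card_map_of_injective W.subtype_injective, ← hA'.symm.index_eq_card, hidx]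
  have hHA : H ⊔ A = W := by
    rw [hA, ← Subgroup.map_subgroupOf_eq_of_le hHW, ← Subgroup.map_sup, hA'.sup_eq_top, ← MonoidHom.range_eq_map,
      Subgroup.range_subtype]
  have hAp : (Nat.card A).Coprime p := hAcard ▸ hFp
  have hAH : ∀ a ∈ A, a ∈ H → a = 1 := fun a ha haH => orderOf_eq_one_iff.1 (Nat.eq_one_of_dvd_coprimes
    (hAp.pow_right j) (A.orderOf_dvd_natCard ha) (hj ▸ H.orderOf_dvd_natCard haH))
  have hAW : A ≤ W := Subgroup.map_subtype_le _
  have hπA : ∀ a ∈ A, π a = 1 → a = 1 := fun a ha h => hAH a ha ((QuotientGroup.eq_one_iff a).1 h)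
  have hAn : Group.IsNilpotent A := isNilpotent_of_injective ((π.comp A.subtype).codRestrict F fun a => hAW a.2)
    ((injective_iff_map_eq_one _).2 fun a ha => Subtype.ext (hπA a a.2 (congrArg Subtype.val ha :))) hFn
  have hAfpf : ∀ a ∈ A, a ≠ 1 → H ⊓ Subgroup.centralizer ({a} : Set G) = ⊥ := by
    intro a ha ha1
    rw [eq_bot_iff]
    rintro w ⟨hw, hwa⟩
    by_contra hw1
    refine ha1 (hAH a ha (hCH (Subgroup.mem_centralizer_iff.2 fun h hh => ?_)))
    exact ((commute_all hCN hHp.isNilpotent (by rw [hj]; exact (hAp.pow_right j).coprime_dvd_left (A.orderOf_dvd_natCard ha)) hw (fun e => hw1 (Subgroup.mem_bot.2 e)) (Subgroup.mem_centralizer_singleton_iff.1 hwa).symm) h hh).symm.eq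
  have hGH : Nontrivial (G ⧸ H) := by
    rw [← Finite.one_lt_card_iff_nontrivial, ← Subgroup.index_eq_card]
    exact Subgroup.one_lt_index_of_ne_top fun h => hHsylow (by rw [h, Subgroup.index_top]; exact hp.not_dvd_one)
  have hF1 : F ≠ ⊥ := by
    intro h
    obtain ⟨r, hr, O, hOn, -, hO1', hOr⟩ := exists_normal_pGroup (⊤ : Subgroup (G ⧸ H)) inferInstance top_ne_bot
    haveI := Fact.mk hr
    exact hO1' (le_bot_iff.1 (h ▸ Grp.le_fittingSubgroup hOn hOr.isNilpotent))
  have hA1 : A ≠ ⊥ := fun h => by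
    rw [h, Subgroup.card_bot] at hAcard
    exact hF1 (Subgroup.card_eq_one.1 hAcard.symm)
  haveI : Nontrivial A := (Subgroup.nontrivial_iff_ne_bot A).2 hA1
  haveI : Nontrivial H := (Subgroup.nontrivial_iff_ne_bot H).2 hH1
  have hfpfA : Grp.Zas.HasFpf.{u, u} A := Grp.Zas.hasFpf_of_fpf_aut ((MulAut.conjNormal (H := H)).comp A.subtype)
    fun a ha k hk => by
      have h1 : (a : G) * k * (a : G)⁻¹ = k := congrArg Subtype.val hk
      have h2 : (k : G) ∈ H ⊓ Subgroup.centralizer ({(a : G)} : Set G) :=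
        ⟨k.2, Subgroup.mem_centralizer_singleton_iff.2 (mul_inv_eq_iff_eq_mul.1 h1).symm⟩
      rw [hAfpf a a.2 (fun e => ha (Subtype.ext e)), Subgroup.mem_bot] at h2
      exact Subtype.ext h2
  -- the isomorphism onto the Fitting subgroup
  let eA : A →* F := (π.comp A.subtype).codRestrict F fun a => hAW a.2
  have hinj : Function.Injective eA :=
    (injective_iff_map_eq_one _).2 fun a ha => Subtype.ext (hπA a a.2 (congrArg Subtype.val ha :))
  have hbij : Function.Bijective eA := (Nat.bijective_iff_injective_and_card eA).2 ⟨hinj, hAcard⟩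
  -- odd order
  have hAodd : Odd (Nat.card A) := by
    by_contra hev
    haveI : Fact (Nat.Prime 2) := ⟨Nat.prime_two⟩
    obtain ⟨t, ht⟩ := exists_prime_orderOf_dvd_card' (G := A) 2 (even_iff_two_dvd.1 (Nat.not_odd_iff_even.1 hev))
    set τ : G ⧸ H := ((eA t : F) : G ⧸ H) with hτ
    have hτ1 : τ ≠ 1 := fun e => by
      have : t = 1 := hinj (Subtype.ext (e.trans (by rw [map_one]; rfl)))
      rw [this, orderOf_one] at ht
      exact absurd ht (by norm_num)
    have hcen : Subgroup.centralizer ({τ} : Set (G ⧸ H)) = ⊤ := by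
      refine eq_top_iff.2 fun g _ => Subgroup.mem_centralizer_singleton_iff.2 ?_
      obtain ⟨s, hs⟩ := hbij.2 ⟨g * τ * g⁻¹, (inferInstance : F.Normal).conj_mem τ (eA t).2 g⟩
      have hs2 : orderOf s = 2 := by
        rw [← orderOf_injective eA hinj, hs, ← Subgroup.orderOf_coe]
        show orderOf (MulAut.conj g τ) = 2
        rw [MulEquiv.orderOf_eq, hτ, Subgroup.orderOf_coe, orderOf_injective eA hinj, ht]
      rw [(hfpfA.involution ht).2 s hs2] at hs
      exact mul_inv_eq_iff_eq_mul.1 (congrArg Subtype.val hs :).symm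
    have hn := hCNq τ hτ1
    rw [hcen] at hn
    haveI : Group.IsNilpotent (G ⧸ H) := Group.nilpotent_of_mulEquiv Subgroup.topEquiv
    obtain ⟨P⟩ : Nonempty (Sylow p G) := inferInstance
    haveI := Fact.mk hp
    have hQn : ((P.mapSurjective (QuotientGroup.mk'_surjective H) : Sylow p (G ⧸ H)) : Subgroup (G ⧸ H)).Normal := inferInstance
    refine hHsylow fun hd => ?_
    refine (P.mapSurjective (QuotientGroup.mk'_surjective H)).ne_bot_of_dvd_card (by rwa [← Subgroup.index_eq_card]) ?_
    exact le_bot_iff.1 (hO1 ▸ Grp.le_pCore hQn (P.mapSurjective (QuotientGroup.mk'_surjective H)).isPGroup')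
  haveI : IsZGroup A := ⟨fun r hr R => by
    haveI := Fact.mk hr
    by_cases h2 : r = 2
    · subst h2
      have hR1 : Nat.card (R : Subgroup A) = 1 := by
        rw [R.card_eq_multiplicity, Nat.factorization_eq_zero_of_not_dvd (fun h => (Nat.not_even_iff_odd.2 hAodd) (even_iff_two_dvd.2 h)), pow_zero]
      haveI := (Nat.card_eq_one_iff_unique.1 hR1).1
      infer_instance
    · exact hfpfA.sylow_cyclic h2 R⟩
  haveI := hAn
  have hAcyc : IsCyclic A := inferInstance
  haveI hFcyc : IsCyclic F := isCyclic_of_surjective eA hbij.2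
  -- the quotient by the Fitting subgroup is abelian
  have habel : ∀ g h : G ⧸ H, ⁅g, h⁆ ∈ F := by
    intro g h
    refine hCF (Subgroup.mem_centralizer_iff.2 fun f hf => ?_)
    let φ := MulAut.conjNormal (H := F)
    have h1 : φ ⁅g, h⁆ = 1 := by
      rw [map_commutatorElement, commutatorElement_eq_one_iff_mul_comm]
      apply (IsCyclic.mulAutMulEquiv F).injective
      rw [map_mul, map_mul, mul_comm]
    have h2 : φ ⁅g, h⁆ ⟨f, hf⟩ = ⟨f, hf⟩ := by rw [h1]; rfl
    exact (mul_inv_eq_iff_eq_mul.1 (congrArg Subtype.val h2 :)).symm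
  have hcent : ∀ b ∈ F, b ≠ 1 → Subgroup.centralizer ({b} : Set (G ⧸ H)) ≤ F := by
    intro b hb hb1
    have hFle : F ≤ Subgroup.centralizer ({b} : Set (G ⧸ H)) := fun f hf => Subgroup.mem_centralizer_singleton_iff.2 (by
      letI := (IsCyclic.commGroup (α := F))
      exact congrArg Subtype.val (mul_comm (⟨f, hf⟩ : F) ⟨b, hb⟩))
    refine Grp.le_fittingSubgroup ⟨fun c hc g => ?_⟩ (hCNq b hb1)
    rw [show g * c * g⁻¹ = ⁅g, c⁆ * c by rw [commutatorElement_def]; group]
    exact mul_mem (hFle (habel g c)) hc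
  refine ⟨hH1, A, hA1, hAcyc, hAodd, hAp, hHA ▸ inferInstance, ?_, ?_, hAfpf, ?_⟩
  · rw [hHA]
    intro h
    refine hHsylow fun hd => ?_
    have h1 : F = ⊤ := by rw [← hmapW, h, Subgroup.map_top_of_surjective π (QuotientGroup.mk'_surjective H)]
    rw [h1, Subgroup.card_top, ← Subgroup.index_eq_card] at hFp
    exact hp.ne_one (Nat.eq_one_of_dvd_coprimes hFp hd dvd_rfl)
  · rw [hHA]
    refine ⟨_, Nat.eq_prime_pow_of_unique_prime_dvd Subgroup.index_ne_zero_of_finite fun {q} hq hd => ?_⟩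
    by_contra hqp
    haveI := Fact.mk hq
    -- an element of order `q` outside `W` normalising `A`
    have hFr : ∀ g : G, ∃ w ∈ W, w⁻¹ * g ∈ Subgroup.normalizer (A : Set G) := by
      intro g
      obtain ⟨n', hn', hn''⟩ := Grp.exists_conj_of_le_sup (N := H) (H := A) (K := MulAut.conj g • A)
        Subgroup.le_normalizer_of_normal (by
          intro x hx
          rw [Grp.mem_smul_conj] at hx
          rw [hHA]
          have h1 : W.Normal := inferInstance
          have := h1.conj_mem _ (hAW hx) g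
          simpa [mul_assoc] using this) (Grp.card_conj_smul _ _) (by rw [hj]; exact (hAp.pow_right j).symm) (Or.inl inferInstance)
      refine ⟨n', hHW hn', Grp.mem_normalizer_iff_smul.2 ?_⟩
      rw [← Grp.conj_smul_conj_smul, ← hn'', Grp.conj_smul_conj_smul, inv_mul_cancel, map_one, one_smul]
    set NA := Subgroup.normalizer (A : Set G)
    obtain ⟨Q⟩ : Nonempty (Sylow q NA) := inferInstance
    obtain ⟨y, hyQ, hyW⟩ : ∃ y : NA, y ∈ (Q : Subgroup NA) ∧ (y : G) ∉ W := by
      by_contra hne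
      push Not at hne
      have h1 : (Q : Subgroup NA) ≤ W.subgroupOf NA := hne
      refine Q.not_dvd_index (dvd_trans ?_ (Subgroup.index_dvd_of_le h1))
      have htop : W ⊔ NA = ⊤ := eq_top_iff.2 fun g _ => by
        obtain ⟨w, hw, hwg⟩ := hFr g
        rw [show g = w * (w⁻¹ * g) by group]
        exact Subgroup.mul_mem_sup hw hwg
      have : (W.subgroupOf NA).index = W.index := by
        show W.relIndex NA = W.index
        rw [← Subgroup.relIndex_sup_right, sup_comm, htop, Subgroup.relIndex_top_right]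
      rwa [this]
    obtain ⟨e, he⟩ := IsPGroup.iff_orderOf.1 Q.isPGroup' ⟨y, hyQ⟩
    rw [Subgroup.orderOf_mk] at he
    rw [← Subgroup.orderOf_coe] at he
    have hey : ∃ k, (y : G) ^ q ^ k ∉ W ∧ (y : G) ^ q ^ (k + 1) ∈ W := by
      by_contra hne
      push Not at hne
      have : ∀ k, (y : G) ^ q ^ k ∉ W := fun k => by
        induction k with
        | zero => simpa using hyW
        | succ k ih => exact hne k ih
      exact this e (by rw [← he, pow_orderOf_eq_one]; exact one_mem _)
    obtain ⟨k, hk, hk'⟩ := hey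
    set z := (y : G) ^ q ^ k with hz
    have hzN : z ∈ NA := pow_mem y.2 _
    have hzq : z ^ q = 1 := by
      have h1 : z ^ q ∈ W := by rw [hz, ← pow_mul, ← pow_succ]; exact hk'
      by_contra hz1
      have hb : π (z ^ q) ∈ F := h1
      have hb1 : π (z ^ q) ≠ 1 := fun e' => by
        refine hz1 (orderOf_eq_one_iff.1 (Nat.eq_one_of_dvd_coprimes (((Nat.coprime_primes hq hp).2 hqp).pow e j) ?_
          (hj ▸ H.orderOf_dvd_natCard ((QuotientGroup.eq_one_iff _).1 e'))))
        rw [hz, ← pow_mul, ← he]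
        exact orderOf_pow_dvd _
      exact hk (hcent _ hb hb1 (Subgroup.mem_centralizer_singleton_iff.2 (by rw [map_pow]; exact (Commute.self_pow _ q).eq)))
    have hj1 : ∀ i, 0 < i → i < q → ∀ a ∈ A, z ^ i * a = a * z ^ i → a = 1 := by
      intro i hi0 hiq a ha hc
      by_contra ha1
      have h1 : π (z ^ i) ∈ F := hcent (π a) (hAW ha) (fun e' => ha1 (hπA a ha e'))
        (Subgroup.mem_centralizer_singleton_iff.2 (by rw [← map_mul, ← map_mul, hc]))
      refine hk (Transfer.mem_of_pow_mem (show z ^ i ∈ W from h1) ?_)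
      refine Nat.Coprime.coprime_dvd_left (orderOf_dvd_of_pow_eq_one hzq) ?_
      exact hq.coprime_iff_not_dvd.2 fun hd' => absurd (Nat.le_of_dvd hi0 hd') (not_le.2 hiq)
    haveI := hHp.isNilpotent
    obtain ⟨w0, hw0⟩ := Subgroup.ne_bot_iff_exists_ne_one.1 (Group.IsNilpotent.center_ne_bot (G := H))
    set V := (Subgroup.center H).map H.subtype with hV
    haveI : V.Normal := inferInstance
    have hVne : V ≠ ⊥ := fun h => by
      rw [hV, Subgroup.map_eq_bot_iff_of_injective _ H.subtype_injective] at h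
      exact hw0 (Subtype.ext (Subgroup.mem_bot.1 (h ▸ w0.2)))
    obtain ⟨v, hv, hv1, hvz⟩ := Grp.Tower.exists_fixed (V := V) (Z := A) (y := z) hq.pos inferInstance hVne inferInstance
      (fun a _ v hv => (inferInstance : V.Normal).conj_mem v hv a) (fun v hv => (inferInstance : V.Normal).conj_mem v hv z)
      (fun a ha => (Subgroup.mem_normalizer_iff.1 hzN a).1 ha) hzq
      ((hAp.pow_right j).coprime_dvd_right (hj ▸ Subgroup.card_dvd_of_le (Subgroup.map_subtype_le _)))
      (fun v hv hall => by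
        obtain ⟨a, ha, ha1⟩ := A.bot_or_exists_ne_one.resolve_left hA1
        exact Subgroup.mem_bot.1 ((hAfpf a ha ha1) ▸ (⟨Subgroup.map_subtype_le _ hv,
          Subgroup.mem_centralizer_singleton_iff.2 (hall a ha).symm⟩ : v ∈ H ⊓ Subgroup.centralizer ({a} : Set G))))
      hj1
    have hzcop : (orderOf z).Coprime (Nat.card H) := by
      rw [hj]
      exact Nat.Coprime.coprime_dvd_left (orderOf_dvd_of_pow_eq_one hzq) (((Nat.coprime_primes hq hp).2 hqp).pow_right j)
    exact hk (hHW (hCH (Subgroup.mem_centralizer_iff.2 fun h hh =>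
      ((commute_all hCN inferInstance hzcop (Subgroup.map_subtype_le _ hv) hv1 hvz) h hh).symm.eq)))
  · intro x hx a ha ha1 hmem
    refine hx (hHA ▸ ?_)
    show π x ∈ F
    refine hcent (π a) (hAW ha) (fun e' => ha1 (hπA a ha e')) (Subgroup.mem_centralizer_singleton_iff.2 ?_)
    have h1 : π (x * a * x⁻¹ * a⁻¹) = 1 := (QuotientGroup.eq_one_iff _).2 hmem
    rwa [map_mul, map_mul, map_mul, map_inv, map_inv, mul_inv_eq_one, mul_inv_eq_iff_eq_mul] at h1

/-- Solvable CN-groups are nilpotent, Frobenius, or three-step. -/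
theorem trichotomy [Group.IsSolvable G] (hCN : Cfsg.IsCNGroup G) :
    Group.IsNilpotent G ∨ (∃ N : Subgroup G, Kernel N) ∨ ∃ p : ℕ, p.Prime ∧ Cfsg.IsThreeStepGroup p G := by
  by_cases hn : Group.IsNilpotent G
  · exact Or.inl hn
  right
  haveI : Nontrivial G := by
    by_contra h
    rw [not_nontrivial_iff_subsingleton] at h
    exact hn Group.isNilpotent_of_subsingleton
  by_cases hS : ∀ (r : ℕ) (_ : Fact r.Prime) (P : Sylow r G), (P : Subgroup G).Normal → (P : Subgroup G) = ⊥
  · exact Or.inr (three_step hCN hS)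
  · push Not at hS
    obtain ⟨r, hr, P, hPn, hP1⟩ := hS
    exact Or.inl ⟨_, kernel_of_normal_sylow hCN hn P hPn hP1⟩

end Cfsg.Agent.Transfer.CN
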