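import Mathlib
import Cfsg.Prelude.Def_OddOrderLocal
import Cfsg.Prelude.Def_LieExceptional
import Cfsg.Agent.Lib.Grp.Cores
import Cfsg.Agent.Lib.Grp.Solvable
import Cfsg.Agent.Lib.Grp.Coprime
import Cfsg.Agent.Lib.Grp.SchurZassenhaus
import Cfsg.Agent.Lib.Transfer.Elements
import Cfsg.Agent.Lib.Transfer.TypeP
import Cfsg.Agent.Lib.Transfer.Fusion
import Cfsg.Agent.Lib.Grp.Frattini

/-!
CN-groups: basic facts, and quotients by solvable normal subgroups.
-/

set_option autoImplicit false
set_option linter.style.haveILetI false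

open scoped Pointwise

universe u

namespace Cfsg.Agent.Transfer.CN

open Cfsg.Agent

variable {G : Type u} [Group G]

theorem isNilpotent_of_injective {A B : Type*} [Group A] [Group B] (f : A →* B) (hf : Function.Injective f)
    (hB : Group.IsNilpotent B) : Group.IsNilpotent A := by
  haveI : Group.IsNilpotent f.range := inferInstance
  exact Group.nilpotent_of_mulEquiv (MonoidHom.ofInjective hf).symm

theorem of_injective (hCN : Cfsg.IsCNGroup G) {A : Type*} [Group A] (f : A →* G) (hf : Function.Injective f) :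
    Cfsg.IsCNGroup A := fun a ha => by
  refine isNilpotent_of_injective ((f.comp (Subgroup.centralizer ({a} : Set A)).subtype).codRestrict
    (Subgroup.centralizer ({f a} : Set G)) fun y => ?_) ?_ (hCN (f a) fun h => ha (hf (h.trans (map_one f).symm)))
  · rw [Subgroup.mem_centralizer_singleton_iff]
    show f y * f a = f a * f y
    rw [← map_mul, ← map_mul, Subgroup.mem_centralizer_singleton_iff.1 y.2]
  · intro x y h
    exact Subtype.ext (hf (congrArg Subtype.val h :))

theorem subgroup (hCN : Cfsg.IsCNGroup G) (X : Subgroup G) : Cfsg.IsCNGroup X :=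
  of_injective hCN X.subtype X.subtype_injective

variable [Finite G]

/-- Elements of coprime orders in the centraliser of a nontrivial element commute. -/
theorem commute_of (hCN : Cfsg.IsCNGroup G) {x a b : G} (hx : x ≠ 1) (ha : Commute a x) (hb : Commute b x)
    (h : (orderOf a).Coprime (orderOf b)) : Commute a b :=
  TypeP.commute_of_coprime_orderOf (hCN x hx) (Subgroup.mem_centralizer_singleton_iff.2 ha.eq)
    (Subgroup.mem_centralizer_singleton_iff.2 hb.eq) h

theorem coprime_orderOf {H : Subgroup G} {a : G} {n : ℕ} (ha : a ∈ H) (h : n.Coprime (Nat.card H)) :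
    n.Coprime (orderOf a) := h.coprime_dvd_right (H.orderOf_dvd_natCard ha)

/-- An element of order prime to a nilpotent subgroup centralising one of its nontrivial elements centralises it. -/
theorem commute_all (hCN : Cfsg.IsCNGroup G) {H : Subgroup G} (hH : Group.IsNilpotent H) {a w : G}
    (hcop : (orderOf a).Coprime (Nat.card H)) (hw : w ∈ H) (hw1 : w ≠ 1) (haw : Commute a w) :
    ∀ h ∈ H, Commute a h := by
  haveI := hH
  haveI : Nontrivial H := ⟨⟨w, hw⟩, 1, fun e => hw1 (congrArg Subtype.val e)⟩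
  obtain ⟨z, hz1⟩ := (Subgroup.ne_bot_iff_exists_ne_one).1 (Group.IsNilpotent.center_ne_bot (G := H))
  have hzc : ∀ h ∈ H, Commute (((z : H) : G)) h := fun h hh =>
    (congrArg Subtype.val (Subgroup.mem_center_iff.1 z.2 ⟨h, hh⟩)).symm
  have hz1' : ((z : H) : G) ≠ 1 := fun e => hz1 (Subtype.ext (Subtype.ext e))
  have haz : Commute a ((z : H) : G) :=
    commute_of hCN hw1 haw (hzc w hw) (coprime_orderOf (z : H).2 hcop)
  exact fun h hh => commute_of hCN hz1' haz (hzc h hh).symm (coprime_orderOf hh hcop)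

/-- A finite group in which elements of coprime orders commute is nilpotent. -/
theorem isNilpotent_of_commute {A : Type*} [Group A] [Finite A]
    (h : ∀ p q : ℕ, p.Prime → q.Prime → p ≠ q → ∀ a b : A, (∃ i, orderOf a = p ^ i) → (∃ j, orderOf b = q ^ j) →
      Commute a b) :
    Group.IsNilpotent A := by
  refine ((Group.isNilpotent_of_finite_tfae (G := A)).out 0 3 rfl rfl).2 fun p hp P => ⟨fun y hy g => ?_⟩
  haveI := hp
  let C : Subgroup A := Subgroup.normalizer ((P : Subgroup A) : Set A)
  suffices hg : g ∈ C from (Subgroup.mem_normalizer_iff.1 hg y).1 hy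
  have hcard : Nat.card C = Nat.card A := by
    refine Nat.dvd_antisymm C.card_subgroup_dvd_card ?_
    rw [Nat.dvd_iff_prime_pow_dvd_dvd]
    intro q k hq hk
    haveI := Fact.mk hq
    obtain ⟨Q⟩ : Nonempty (Sylow q A) := inferInstance
    have hQC : (Q : Subgroup A) ≤ C ∨ q = p := by
      refine or_iff_not_imp_right.2 fun hqp x hx => ?_
      obtain ⟨j, hj⟩ := IsPGroup.iff_orderOf.1 Q.isPGroup' ⟨x, hx⟩
      rw [Subgroup.orderOf_mk] at hj
      refine Subgroup.centralizer_le_normalizer _ (Subgroup.mem_centralizer_iff.2 fun w hw => ?_)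
      obtain ⟨i, hi⟩ := IsPGroup.iff_orderOf.1 P.isPGroup' ⟨w, hw⟩
      rw [Subgroup.orderOf_mk] at hi
      exact (h p q hp.out hq (Ne.symm hqp) w x ⟨i, hi⟩ ⟨j, hj⟩).eq
    have hdvd : ∀ (R : Sylow q A), (R : Subgroup A) ≤ C → q ^ k ∣ Nat.card C := fun R hR => by
      refine dvd_trans ?_ (Subgroup.card_dvd_of_le hR)
      rw [R.card_eq_multiplicity]
      exact pow_dvd_pow _ ((hq.pow_dvd_iff_le_factorization Nat.card_pos.ne').1 hk)
    rcases hQC with hQC | rfl
    · exact hdvd Q hQC
    · exact hdvd P Subgroup.le_normalizer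
  rw [Subgroup.eq_top_of_card_eq C hcard]
  trivial

/-- The image of a CN-group modulo a normal `p`-subgroup is a CN-group. -/
theorem quotient_pGroup (hCN : Cfsg.IsCNGroup G) {p : ℕ} [hp : Fact p.Prime] (M : Subgroup G) [M.Normal]
    (hM : IsPGroup p M) (hM1 : M ≠ ⊥) : Cfsg.IsCNGroup (G ⧸ M) := by
  intro g hg
  set π := QuotientGroup.mk' M with hπ
  -- reduce to an element of prime power order
  obtain ⟨q, hq, k, hk⟩ := Nat.exists_prime_and_dvd (fun h => hg (orderOf_eq_one_iff.1 h))
  obtain ⟨y, hy⟩ := QuotientGroup.mk'_surjective M g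
  set n := orderOf y with hn
  obtain ⟨e, m, hm, hnm⟩ := Nat.exists_eq_pow_mul_and_not_dvd (orderOf_pos y).ne' q hq.ne_one
  set x := y ^ m with hx
  have hxq : orderOf x ∣ q ^ e := orderOf_dvd_of_pow_eq_one (by
    rw [hx, ← pow_mul, mul_comm, ← hnm, pow_orderOf_eq_one])
  have hgm : π x = g ^ m := by rw [hx, map_pow, hy]
  have hxM : x ∉ M := fun h => by
    rw [← QuotientGroup.eq_one_iff] at h
    have h1 : g ^ m = 1 := hgm ▸ h
    exact hm (((Dvd.intro _ hk.symm)).trans (orderOf_dvd_of_pow_eq_one h1))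
  have hxg : ∀ c ∈ Subgroup.centralizer ({g} : Set (G ⧸ M)), Commute c (π x) := fun c hc => by
    rw [hgm]; exact (show Commute c g from Subgroup.mem_centralizer_singleton_iff.1 hc).pow_right m
  set L := (Subgroup.centralizer ({π x} : Set (G ⧸ M))).comap π with hL
  suffices hC : Group.IsNilpotent ((Subgroup.centralizer ({π x} : Set (G ⧸ M)))) from
    Grp.isNilpotent_of_le (fun c hc => Subgroup.mem_centralizer_singleton_iff.2 (hxg c hc).eq) hC
  rw [← Subgroup.map_comap_eq_self_of_surjective (QuotientGroup.mk'_surjective M)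
    (Subgroup.centralizer ({π x} : Set (G ⧸ M)))]
  have hLx : ∀ l ∈ L, l * x * l⁻¹ * x⁻¹ ∈ M := fun l hl => by
    rw [← QuotientGroup.eq_one_iff]
    show π (l * x * l⁻¹ * x⁻¹) = 1
    rw [map_mul, map_mul, map_mul, map_inv, map_inv, Subgroup.mem_centralizer_singleton_iff.1 hl,
      mul_inv_cancel_right, mul_inv_cancel]
  have hx1 : x ≠ 1 := fun h => hxM (h ▸ M.one_mem)
  by_cases hqp : q = p
  · subst hqp
    -- the preimage is nilpotent
    suffices hLn : Group.IsNilpotent L from Grp.isNilpotent_map hLn π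
    obtain ⟨j, hj⟩ := IsPGroup.iff_card.1 hM
    have hxp : IsPGroup q (Subgroup.zpowers x) := by
      obtain ⟨i, -, hi⟩ := (Nat.dvd_prime_pow hq).1 hxq
      exact IsPGroup.of_card (n := i) (by rw [Nat.card_zpowers, hi])
    refine isNilpotent_of_commute fun r r' hr hr' hrr a b ⟨i, ha⟩ ⟨i', hb⟩ => Subtype.ext ?_
    show (a : G) * b = b * a
    rw [← Subgroup.orderOf_coe] at ha hb
    -- a central element of a Sylow subgroup containing `M`, `x`
    have key : ∀ u : G, u ∈ L → ¬ q ∣ orderOf u → ∀ z ∈ M, z ≠ 1 → (∀ d ∈ M ⊔ Subgroup.zpowers x, Commute z d) →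
        Commute u z := by
      intro u hu huq z hz hz1 hzP
      have hcop : (orderOf u).Coprime q := (hq.coprime_iff_not_dvd.2 huq).symm
      have hA : Nat.card (Subgroup.zpowers u) = orderOf u := Nat.card_zpowers u
      have hcM : (Nat.card (Subgroup.zpowers u)).Coprime (Nat.card M) := by
        rw [hA, hj]; exact hcop.pow_right j
      have hMx : (Subgroup.zpowers x) ≤ Subgroup.normalizer (M : Set G) := Subgroup.le_normalizer_of_normal
      have hP0 : IsPGroup q ↥(M ⊔ Subgroup.zpowers x) := hM.to_sup_of_normal_left hxp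
      have hP0n : Subgroup.zpowers u ≤ Subgroup.normalizer ((M ⊔ Subgroup.zpowers x : Subgroup G) : Set G) := by
        rw [Subgroup.zpowers_le]
        refine Subgroup.mem_normalizer_fintype fun d hd => ?_
        obtain ⟨m', hm', c, hc, rfl⟩ := Subgroup.mem_sup_of_normal_left.1 hd
        obtain ⟨s, rfl⟩ := hc
        have h1 : u * x * u⁻¹ ∈ M ⊔ Subgroup.zpowers x := by
          rw [show u * x * u⁻¹ = u * x * u⁻¹ * x⁻¹ * x by group]
          exact Subgroup.mul_mem_sup (hLx u hu) (Subgroup.mem_zpowers x)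
        rw [show u * (m' * x ^ s) * u⁻¹ = u * m' * u⁻¹ * (u * x * u⁻¹) ^ s by rw [conj_zpow]; group]
        exact mul_mem (Subgroup.mem_sup_left ((inferInstance : M.Normal).conj_mem _ hm' u)) (zpow_mem h1 s)
      have hinf : Subgroup.zpowers u ⊓ (M ⊔ Subgroup.zpowers x) = ⊥ := by
        obtain ⟨t, ht⟩ := IsPGroup.iff_card.1 hP0
        exact disjoint_iff.1 (Subgroup.disjoint_of_coprime_natCard (by rw [hA, ht]; exact hcop.pow_right t))
      obtain ⟨c, ⟨hc, hcu⟩, hcx⟩ := Grp.exists_fixed_rep (Subgroup.zpowers u) (M ⊔ Subgroup.zpowers x) M hP0n hinf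
        hcM (Or.inl inferInstance) le_sup_left Subgroup.le_normalizer_of_normal Subgroup.le_normalizer_of_normal
        (Subgroup.mem_sup_right (Subgroup.mem_zpowers x)) (by
          intro a ha
          have : a ∈ L := Subgroup.zpowers_le.2 hu ha
          exact hLx a this)
      have hc1 : c ≠ 1 := fun h => hxM (by rw [h, mul_one] at hcx; exact inv_mem_iff.1 hcx)
      have hcu' : Commute u c := Subgroup.mem_centralizer_iff.1 hcu u (Subgroup.mem_zpowers u)
      obtain ⟨t, ht⟩ := hP0 ⟨z, Subgroup.mem_sup_left hz⟩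
      refine commute_of hCN hc1 hcu' (hzP c hc) (Nat.Coprime.coprime_dvd_right
        (orderOf_dvd_of_pow_eq_one (congrArg Subtype.val ht :)) (hcop.pow_right t))
    have main : ∀ u v : G, u ∈ L → v ∈ L → ¬ q ∣ orderOf u → (orderOf u).Coprime (orderOf v) →
        (¬ q ∣ orderOf v ∨ ∃ i, orderOf v = q ^ i) → Commute u v := by
      intro u v hu hv huq hcop hv'
      -- a Sylow subgroup of `L` containing `M`, `x`, and `v` if that is a `q`-element
      have hML : M ≤ L := fun w hw => by
        show π w ∈ Subgroup.centralizer ({π x} : Set (G ⧸ M))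
        rw [show π w = 1 from (QuotientGroup.eq_one_iff w).2 hw]; exact one_mem _
      have hxL : x ∈ L := Subgroup.mem_centralizer_singleton_iff.2 rfl
      haveI : (M.subgroupOf L).Normal := inferInstance
      obtain ⟨W, hWq, hWL, hWv⟩ : ∃ W : G, IsPGroup q (Subgroup.zpowers W) ∧ W ∈ L ∧ (q ∣ orderOf v → W = v) := by
        by_cases hc : q ∣ orderOf v
        · obtain ⟨i, hi⟩ := hv'.resolve_left (not_not.2 hc)
          exact ⟨v, IsPGroup.of_card (n := i) (by rw [Nat.card_zpowers, hi]), hv, fun _ => rfl⟩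
        · exact ⟨1, IsPGroup.of_card (n := 0) (by rw [Nat.card_zpowers, orderOf_one, pow_zero]), one_mem _, fun h => absurd h hc⟩
      have hxn : ∀ l ∈ L, l ∈ Subgroup.normalizer ((M ⊔ Subgroup.zpowers x : Subgroup G) : Set G) := by
        intro l hl
        refine Subgroup.mem_normalizer_fintype fun d hd => ?_
        obtain ⟨m', hm', c, hc, rfl⟩ := Subgroup.mem_sup_of_normal_left.1 hd
        obtain ⟨s, rfl⟩ := hc
        have h1 : l * x * l⁻¹ ∈ M ⊔ Subgroup.zpowers x := by
          rw [show l * x * l⁻¹ = l * x * l⁻¹ * x⁻¹ * x by group]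
          exact Subgroup.mul_mem_sup (hLx l hl) (Subgroup.mem_zpowers x)
        rw [show l * (m' * x ^ s) * l⁻¹ = l * m' * l⁻¹ * (l * x * l⁻¹) ^ s by rw [conj_zpow]; group]
        exact mul_mem (Subgroup.mem_sup_left ((inferInstance : M.Normal).conj_mem _ hm' l)) (zpow_mem h1 s)
      have hS : IsPGroup q ↥((M ⊔ Subgroup.zpowers x) ⊔ Subgroup.zpowers W) :=
        (hM.to_sup_of_normal_left hxp).to_sup_of_normal_left' hWq (Subgroup.zpowers_le.2 (hxn W hWL))
      set S := (M ⊔ Subgroup.zpowers x) ⊔ Subgroup.zpowers W with hSdef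
      haveI := hS.isNilpotent
      have hMS : M ≤ S := le_sup_left.trans le_sup_left
      haveI : (M.subgroupOf S).Normal := inferInstance
      obtain ⟨z, hz1⟩ := Subgroup.ne_bot_iff_exists_ne_one.1 (Grp.inf_center_ne_bot (M.subgroupOf S) (fun h => hM1 (by
        rw [← Subgroup.map_subgroupOf_eq_of_le hMS, h, Subgroup.map_bot])))
      have hzc : ∀ d ∈ S, Commute (((z : S) : G)) d := fun d hd =>
        (congrArg Subtype.val (Subgroup.mem_center_iff.1 z.2.2 ⟨d, hd⟩)).symm
      have hz1' : ((z : S) : G) ≠ 1 := fun e => hz1 (Subtype.ext (Subtype.ext e))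
      have huz := key u hu huq _ z.2.1 hz1' fun d hd => hzc d (Subgroup.mem_sup_left hd)
      refine commute_of hCN hz1' huz ?_ hcop
      by_cases hc : ¬ q ∣ orderOf v
      · exact key v hv hc _ z.2.1 hz1' fun d hd => hzc d (Subgroup.mem_sup_left hd)
      · have hvS : v ∈ S := Subgroup.mem_sup_right (by rw [← hWv (not_not.1 hc)]; exact Subgroup.mem_zpowers W)
        exact (hzc v hvS).symm
    have hcop : (orderOf (a : G)).Coprime (orderOf (b : G)) := by
      rw [ha, hb]; exact Nat.Coprime.pow _ _ ((Nat.coprime_primes hr hr').2 hrr)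
    have hor : ∀ (w : G) (s l : ℕ), s.Prime → orderOf w = s ^ l → ¬ q ∣ orderOf w ∨ ∃ i, orderOf w = q ^ i := by
      intro w s l hs hw
      by_cases hsq : s = q
      · exact Or.inr ⟨l, hsq ▸ hw⟩
      · refine Or.inl fun hd => hsq ?_
        rw [hw] at hd
        exact ((Nat.prime_dvd_prime_iff_eq hq hs).1 (hq.dvd_of_dvd_pow hd)).symm
    by_cases haq : q ∣ orderOf (a : G)
    · refine ((main b a b.2 a.2 (fun hbq => ?_) hcop.symm (hor _ r i hr ha)).symm).eq
      exact hq.ne_one (Nat.eq_one_of_dvd_coprimes hcop haq hbq)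
    · exact (main a b a.2 b.2 haq hcop (hor _ r' i' hr' hb)).eq
  · -- a coprime element: the centraliser covers the preimage
    have hcov : L.map π ≤ (Subgroup.centralizer ({x} : Set G)).map π := by
      rintro _ ⟨l, hl, rfl⟩
      obtain ⟨j, hj⟩ := IsPGroup.iff_card.1 hM
      have hcop : (Nat.card M).Coprime (Nat.card (Subgroup.zpowers x)) := by
        rw [hj, Nat.card_zpowers]
        exact Nat.Coprime.coprime_dvd_right hxq (Nat.Coprime.pow _ _ ((Nat.coprime_primes hp.out hq).2 (Ne.symm hqp)))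
      obtain ⟨n', hn', hconj⟩ := Grp.exists_conj_of_le_sup (N := M) (H := Subgroup.zpowers x)
        (K := MulAut.conj l • Subgroup.zpowers x) Subgroup.le_normalizer_of_normal (by
          intro w hw
          rw [Grp.mem_smul_conj] at hw
          obtain ⟨s, hs⟩ := hw
          have h1 : l * x * l⁻¹ ∈ M ⊔ Subgroup.zpowers x := by
            rw [show l * x * l⁻¹ = l * x * l⁻¹ * x⁻¹ * x by group]
            exact Subgroup.mul_mem_sup (hLx l hl) (Subgroup.mem_zpowers x)
          rw [show w = (l * x * l⁻¹) ^ s by rw [conj_zpow, show x ^ s = l⁻¹ * w * l from hs]; group]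
          exact zpow_mem h1 s) (Grp.card_conj_smul _ _) hcop (Or.inr inferInstance)
      refine ⟨n'⁻¹ * l, ?_, by
        rw [map_mul, map_inv, show π n' = 1 from (QuotientGroup.eq_one_iff n').2 hn', inv_one, one_mul]⟩
      show n'⁻¹ * l ∈ Subgroup.centralizer ({x} : Set G)
      rw [Subgroup.mem_centralizer_singleton_iff]
      have hmem : n' * x * n'⁻¹ ∈ MulAut.conj l • Subgroup.zpowers x := by
        rw [← hconj, Grp.mem_smul_conj]
        exact ⟨1, by group⟩
      rw [Grp.mem_smul_conj] at hmem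
      obtain ⟨s, hs⟩ := hmem
      have hs' : x ^ s = l⁻¹ * (n' * x * n'⁻¹) * l := hs
      have h2 : π (x ^ s) = π x := by
        rw [hs', map_mul, map_mul, map_mul, map_mul, map_inv, map_inv, show π n' = 1 from (QuotientGroup.eq_one_iff n').2 hn',
          inv_one, mul_one, one_mul, mul_assoc, ← Subgroup.mem_centralizer_singleton_iff.1 hl, ← mul_assoc, inv_mul_cancel, one_mul]
      have h3 : x ^ s = x := by
        have h4 : x ^ (s - 1) ∈ M := by
          rw [← QuotientGroup.eq_one_iff]
          show π (x ^ (s - 1)) = 1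
          rw [zpow_sub_one, map_mul, h2, map_inv, mul_inv_cancel]
        have h5 := orderOf_eq_one_iff.1 (Nat.eq_one_of_dvd_coprimes hcop (M.orderOf_dvd_natCard h4)
          ((Subgroup.zpowers x).orderOf_dvd_natCard (zpow_mem (Subgroup.mem_zpowers x) _)))
        rwa [zpow_sub_one, mul_inv_eq_one] at h5
      rw [h3] at hs'
      calc n'⁻¹ * l * x = n'⁻¹ * l * (l⁻¹ * (n' * x * n'⁻¹) * l) := by rw [← hs']
        _ = x * (n'⁻¹ * l) := by group
    exact Grp.isNilpotent_of_le hcov (Grp.isNilpotent_map (hCN x hx1) π)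

omit [Finite G] in
/-- A solvable normal subgroup other than `1` contains a normal `p`-subgroup other than `1`. -/
theorem exists_normal_pGroup [Finite G] (H : Subgroup G) [H.Normal] (hH : Group.IsSolvable H) (hne : H ≠ ⊥) :
    ∃ p : ℕ, p.Prime ∧ ∃ M : Subgroup G, M.Normal ∧ M ≤ H ∧ M ≠ ⊥ ∧ IsPGroup p M := by
  obtain ⟨M, hM⟩ := (Set.toFinite {M : Subgroup G | M.Normal ∧ M ≤ H ∧ M ≠ ⊥}).exists_minimal
    ⟨H, inferInstance, le_rfl, hne⟩
  haveI := hM.1.1
  obtain ⟨p, hp, hMp⟩ := Grp.minimal_normal_solvable_isPGroup (N := M) (Grp.isSolvable_of_le hM.1.2.1 hH) hM.1.2.2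
    fun K hK hKM => by
      by_cases hK0 : K = ⊥
      · exact Or.inl hK0
      · exact Or.inr (le_antisymm hKM (hM.2 ⟨hK, hKM.trans hM.1.2.1, hK0⟩ hKM))
  exact ⟨p, hp, M, hM.1.1, hM.1.2.1, hM.1.2.2, hMp⟩

omit [Finite G] in
theorem quotient_aux : ∀ (n : ℕ) {A : Type u} [Group A] [Finite A], Nat.card A ≤ n → Cfsg.IsCNGroup A →
    ∀ (H : Subgroup A) [H.Normal], Group.IsSolvable H → Cfsg.IsCNGroup (A ⧸ H) := by
  intro n
  induction n with
  | zero => intro A _ _ h; exact absurd h (not_le.2 Nat.card_pos)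
  | succ n ih =>
    intro A _ _ hn hCN H _ hH
    by_cases hbot : H = ⊥
    · subst hbot
      exact of_injective hCN QuotientGroup.quotientBot.toMonoidHom QuotientGroup.quotientBot.injective
    obtain ⟨p, hp, M, hMn, hMH, hM1, hMp⟩ := exists_normal_pGroup H hH hbot
    haveI := Fact.mk hp
    haveI := hMn
    have hlt : Nat.card (A ⧸ M) ≤ n := by
      have h1 := M.card_mul_index
      rw [Subgroup.index_eq_card] at h1
      have := (Subgroup.one_lt_card_iff_ne_bot M).2 hM1
      have := Nat.card_pos (α := A ⧸ M)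
      nlinarith
    haveI : (H.map (QuotientGroup.mk' M)).Normal := Subgroup.Normal.map inferInstance _ (QuotientGroup.mk'_surjective M)
    have h2 := ih hlt (quotient_pGroup hCN M hMp hM1) (H.map (QuotientGroup.mk' M)) (Grp.isSolvable_map hH _)
    exact of_injective h2 (QuotientGroup.quotientQuotientEquivQuotient M H hMH).symm.toMonoidHom
      (QuotientGroup.quotientQuotientEquivQuotient M H hMH).symm.injective

/-- The quotient of a CN-group by a solvable normal subgroup is a CN-group. -/
theorem quotient (hCN : Cfsg.IsCNGroup G) (H : Subgroup G) [H.Normal] (hH : Group.IsSolvable H) :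
    Cfsg.IsCNGroup (G ⧸ H) :=
  quotient_aux _ le_rfl hCN H hH

end Cfsg.Agent.Transfer.CN
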