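import Cfsg.Agent.Lib.Transfer.CN.Structure

/-!
Maximal nilpotent subgroups of CN-groups.
-/

set_option autoImplicit false
set_option linter.style.haveILetI false

open scoped Pointwise

universe u

namespace Cfsg.Agent.Transfer.CN

open Cfsg.Agent

variable {G : Type u} [Group G]

/-- A maximal nilpotent subgroup. -/
structure MaxNil (H : Subgroup G) : Prop where
  nilpotent : Group.IsNilpotent H
  max : ∀ L : Subgroup G, Group.IsNilpotent L → H ≤ L → L = H

variable [Finite G]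

theorem exists_maxNil {K : Subgroup G} (hK : Group.IsNilpotent K) : ∃ H : Subgroup G, MaxNil H ∧ K ≤ H := by
  obtain ⟨H, hKH, hH⟩ := (Set.toFinite {L : Subgroup G | Group.IsNilpotent L}).exists_le_maximal (a := K) hK
  exact ⟨H, ⟨hH.1, fun L hL hHL => le_antisymm (hH.2 hL hHL) hHL⟩, hKH⟩

namespace MaxNil

variable {H : Subgroup G} (hH : MaxNil H)

theorem pow_mem_zpowers_orderOf {x : G} {p : ℕ} [Fact p.Prime] {i : ℕ} (hx : orderOf x = p ^ i) :
    IsPGroup p (Subgroup.zpowers x) := IsPGroup.of_card (n := i) (by rw [Nat.card_zpowers, hx])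

include hH

theorem ne_bot [Nontrivial G] : H ≠ ⊥ := fun h => by
  obtain ⟨x, hx⟩ := exists_ne (1 : G)
  letI : CommGroup (Subgroup.zpowers x) := IsCyclic.commGroup
  have := hH.max (Subgroup.zpowers x) CommGroup.isNilpotent (h ▸ bot_le)
  exact hx (Subgroup.mem_bot.1 (h ▸ this ▸ Subgroup.mem_zpowers x))

theorem commute_coprime {a b : G} (ha : a ∈ H) (hb : b ∈ H) (h : (orderOf a).Coprime (orderOf b)) : Commute a b :=
  TypeP.commute_of_coprime_orderOf hH.nilpotent ha hb h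

theorem exists_central {p : ℕ} [hp : Fact p.Prime] (hd : p ∣ Nat.card H) :
    ∃ w ∈ H, orderOf w = p ∧ ∀ h ∈ H, Commute w h := by
  haveI := hH.nilpotent
  obtain ⟨Q⟩ : Nonempty (Sylow p H) := inferInstance
  set M := (Q : Subgroup H).map H.subtype with hM
  obtain ⟨w, hw, hw1, hwc⟩ := exists_center_mem hH.nilpotent (Subgroup.map_subtype_le _ : M ≤ H) (fun h hh => by
    refine Subgroup.mem_normalizer_fintype fun d hd => ?_
    obtain ⟨d, hd, rfl⟩ := hd
    exact ⟨⟨h, hh⟩ * d * ⟨h, hh⟩⁻¹, (inferInstance : (Q : Subgroup H).Normal).conj_mem d hd _, rfl⟩)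
    (fun h => Q.ne_bot_of_dvd_card hd ((Subgroup.map_eq_bot_iff_of_injective _ H.subtype_injective).1 h))
  obtain ⟨i, hi⟩ := IsPGroup.iff_orderOf.1 (Q.isPGroup'.map H.subtype) ⟨w, hw⟩
  rw [Subgroup.orderOf_mk] at hi
  rcases i with _ | i
  · exact absurd (orderOf_eq_one_iff.1 (hi.trans (pow_zero p))) hw1
  refine ⟨w ^ p ^ i, H.pow_mem (Subgroup.map_subtype_le _ hw) _, ?_, fun h hh => (hwc h hh).pow_left _⟩
  rw [orderOf_pow_of_dvd (pow_ne_zero _ hp.out.ne_zero) (hi ▸ pow_dvd_pow p i.le_succ), hi,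
    Nat.pow_div i.le_succ hp.out.pos, Nat.succ_sub le_rfl, Nat.sub_self, pow_one]

theorem centralizer_eq (hCN : Cfsg.IsCNGroup G) {z : G} (hz1 : z ≠ 1) (hzc : ∀ h ∈ H, Commute z h) :
    Subgroup.centralizer ({z} : Set G) = H :=
  hH.max _ (hCN z hz1) fun h hh => Subgroup.mem_centralizer_singleton_iff.2 (hzc h hh).symm

theorem mem_of_commute_central (hCN : Cfsg.IsCNGroup G) {z y : G} (hz1 : z ≠ 1) (hzc : ∀ h ∈ H, Commute z h)
    (hy : Commute y z) : y ∈ H :=
  hH.centralizer_eq hCN hz1 hzc ▸ Subgroup.mem_centralizer_singleton_iff.2 hy.eq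

theorem hall (hCN : Cfsg.IsCNGroup G) : (Nat.card H).Coprime H.index := by
  refine Nat.coprime_of_dvd fun p hp hd hi => ?_
  haveI := Fact.mk hp
  haveI := hH.nilpotent
  obtain ⟨Q⟩ : Nonempty (Sylow p H) := inferInstance
  obtain ⟨S, hS⟩ := (Q.isPGroup'.map H.subtype).exists_le_sylow
  suffices hSH : (S : Subgroup G) ≤ H from S.not_dvd_index (hi.trans (Subgroup.index_dvd_of_le hSH))
  by_cases hpp : ∃ q, q.Prime ∧ q ≠ p ∧ q ∣ Nat.card H
  · obtain ⟨w, hw, hwo, hwc⟩ := hH.exists_central hd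
    obtain ⟨u, hu, hu1, huc⟩ := exists_center_mem S.isPGroup'.isNilpotent (le_refl (S : Subgroup G)) Subgroup.le_normalizer
      (S.ne_bot_of_dvd_card (hd.trans H.card_subgroup_dvd_card))
    have hwQ : w ∈ (Q : Subgroup H).map H.subtype := by
      obtain ⟨R, hR⟩ := (pow_mem_zpowers_orderOf (x := (⟨w, hw⟩ : H)) (i := 1) (by rw [Subgroup.orderOf_mk, hwo, pow_one]) :
        IsPGroup p (Subgroup.zpowers (⟨w, hw⟩ : H))).exists_le_sylow
      haveI := Q.unique_of_normal inferInstance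
      exact ⟨⟨w, hw⟩, Subsingleton.elim R Q ▸ hR (Subgroup.mem_zpowers _), rfl⟩
    have huH : u ∈ H := hH.mem_of_commute_central hCN (fun e => hp.ne_one (by rw [← hwo, e, orderOf_one])) hwc
      (huc w (hS hwQ))
    obtain ⟨i, hi'⟩ := IsPGroup.iff_orderOf.1 S.isPGroup' ⟨u, hu⟩
    rw [Subgroup.orderOf_mk] at hi'
    -- `u` is central in `H`
    have huC : ∀ h ∈ H, Commute u h := by
      intro h hh
      suffices h' : h ∈ Subgroup.centralizer ({u} : Set G) from ((Subgroup.mem_centralizer_singleton_iff.1 h').symm :)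
      refine Transfer.prime_parts h _ fun r hr y ⟨k, hy⟩ hyh => ?_
      have hyH : y ∈ H := Subgroup.zpowers_le.2 hh hyh
      rw [Subgroup.mem_centralizer_singleton_iff]
      by_cases hrp : r = p
      · subst hrp
        obtain ⟨R, hR⟩ := (pow_mem_zpowers_orderOf (x := (⟨y, hyH⟩ : H)) (i := k) (by rw [Subgroup.orderOf_mk, hy]) :
          IsPGroup r (Subgroup.zpowers (⟨y, hyH⟩ : H))).exists_le_sylow
        haveI := Q.unique_of_normal inferInstance
        exact (huc y (hS ⟨⟨y, hyH⟩, Subsingleton.elim R Q ▸ hR (Subgroup.mem_zpowers _), rfl⟩)).symm.eq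
      · exact (hH.commute_coprime hyH huH (by rw [hy, hi']; exact Nat.Coprime.pow _ _ ((Nat.coprime_primes hr hp).2 hrp))).eq
    exact fun s hs => hH.mem_of_commute_central hCN hu1 huC (huc s hs).symm
  · push Not at hpp
    have hHp : IsPGroup p H := IsPGroup.of_card (n := (Nat.card H).factorization p)
      (Nat.eq_prime_pow_of_unique_prime_dvd Nat.card_pos.ne' (fun {r} hr hrd => by_contra fun hne => hpp r hr hne hrd) |>.trans
        (by
          have h1 := Nat.eq_prime_pow_of_unique_prime_dvd (p := p) (Nat.card_pos (α := H)).ne'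
            (fun {r} hr hrd => by_contra fun hne => hpp r hr hne hrd)
          conv_rhs => rw [h1]
          rw [hp.factorization_pow, Finsupp.single_eq_same]))
    obtain ⟨T, hT⟩ := hHp.exists_le_sylow
    have hTH := hH.max T T.isPGroup'.isNilpotent hT
    exact (T.not_dvd_index (hTH.symm ▸ hi)).elim

theorem ti (hCN : Cfsg.IsCNGroup G) (hne : ¬ IsPrimePow (Nat.card H)) {K : Subgroup G} (hK : MaxNil K) {x : G}
    (hx : x ∈ H) (hxK : x ∈ K) (hx1 : x ≠ 1) : K = H := by
  obtain ⟨p, hp, j, hj⟩ := Nat.exists_prime_and_dvd (fun h => hx1 (orderOf_eq_one_iff.1 h))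
  set x' := x ^ j
  have hj0 : j ≠ 0 := fun h => (orderOf_pos x).ne' (by rw [hj, h, mul_zero])
  have hxo : orderOf x' = p := by
    rw [orderOf_pow_of_dvd hj0 ⟨p, by rw [hj, mul_comm]⟩, hj, Nat.mul_div_cancel _ (Nat.pos_of_ne_zero hj0)]
  have hx1' : x' ≠ 1 := fun h => hp.ne_one (by rw [← hxo, h, orderOf_one])
  haveI := Fact.mk hp
  have hx'H : x' ∈ H := H.pow_mem hx j
  have hx'K : x' ∈ K := K.pow_mem hxK j
  have hpH : p ∣ Nat.card H := hxo ▸ H.orderOf_dvd_natCard hx'H
  obtain ⟨q, hq, hqp, hqd⟩ : ∃ q, q.Prime ∧ q ≠ p ∧ q ∣ Nat.card H := by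
    by_contra h
    push Not at h
    refine hne ((isPrimePow_nat_iff _).2 ⟨p, _, hp, ?_, (Nat.eq_prime_pow_of_unique_prime_dvd Nat.card_pos.ne'
      (fun {r} hr hrd => by_contra fun hne => h r hr hne hrd)).symm⟩)
    refine Nat.pos_of_ne_zero fun h0 => hp.ne_one (Nat.dvd_one.1 ?_)
    rw [Nat.eq_prime_pow_of_unique_prime_dvd (p := p) Nat.card_pos.ne'
      (fun {r} hr hrd => by_contra fun hne => h r hr hne hrd), h0, pow_zero] at hpH
    exact hpH
  haveI := Fact.mk hq
  obtain ⟨w, hw, hwo, hwc⟩ := hH.exists_central hpH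
  obtain ⟨v, hv, hvo, hvc⟩ := hH.exists_central hqd
  have hv1 : v ≠ 1 := fun h => hq.ne_one (by rw [← hvo, h, orderOf_one])
  -- elements of order prime to `p` of `K` lie in `H`
  have key : ∀ y ∈ K, (orderOf y).Coprime p → y ∈ H := fun y hy hyp =>
    hH.mem_of_commute_central hCN (fun e => hp.ne_one (by rw [← hwo, e, orderOf_one])) hwc
      (commute_of hCN hx1' (hK.commute_coprime hy hx'K (hxo ▸ hyp)) (hwc x' hx'H) (hwo ▸ hyp))
  have hcop : (orderOf v).Coprime p := hvo ▸ (Nat.coprime_primes hq hp).2 hqp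
  obtain ⟨w', hw', hwo', hwc'⟩ : ∃ w' ∈ K, orderOf w' = p ∧ ∀ h ∈ K, Commute w' h :=
    hK.exists_central (hxo ▸ K.orderOf_dvd_natCard hx'K)
  have hvK : v ∈ K := hK.mem_of_commute_central hCN (fun e => hp.ne_one (by rw [← hwo', e, orderOf_one])) hwc'
    (commute_of hCN hx1' (hvc x' hx'H) (hwc' x' hx'K) (hwo' ▸ hcop))
  -- `v` is central in `K`
  have hvKc : ∀ k ∈ K, Commute v k := by
    intro k hk
    suffices h' : k ∈ Subgroup.centralizer ({v} : Set G) from ((Subgroup.mem_centralizer_singleton_iff.1 h').symm :)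
    refine Transfer.prime_parts k _ fun r hr y ⟨l, hy⟩ hyk => ?_
    have hyK : y ∈ K := Subgroup.zpowers_le.2 hk hyk
    rw [Subgroup.mem_centralizer_singleton_iff]
    by_cases hrq : r = q
    · subst hrq
      exact (hvc y (key y hyK (by rw [hy]; exact ((Nat.coprime_primes hr hp).2 hqp).pow_left l))).symm.eq
    · exact (hK.commute_coprime hyK hvK (by rw [hy, hvo]; exact ((Nat.coprime_primes hr hq).2 hrq).pow_left l)).eq
  rw [← hK.centralizer_eq hCN hv1 hvKc, hH.centralizer_eq hCN hv1 hvc]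

omit hH in
theorem map_conj (hH : MaxNil H) (g : G) : MaxNil (H.map (MulAut.conj g).toMonoidHom) := by
  refine ⟨Grp.isNilpotent_map hH.nilpotent _, fun L hL hle => ?_⟩
  have h1 := hH.max (L.map (MulAut.conj g⁻¹).toMonoidHom) (Grp.isNilpotent_map hL _) (fun h hh =>
    ⟨_, hle ⟨h, hh, rfl⟩, by simp [mul_assoc]⟩)
  rw [← h1, Subgroup.map_map]
  conv_lhs => rw [← Subgroup.map_id L]
  congr 1
  ext y
  simp [mul_assoc]

theorem mem_normalizer_of_ti (hTI : ∀ g : G, H.map (MulAut.conj g).toMonoidHom ≠ H → H ⊓ H.map (MulAut.conj g).toMonoidHom = ⊥)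
    {g x : G} (hx : x ∈ H) (hx1 : x ≠ 1) (hgx : g * x * g⁻¹ ∈ H) : g ∈ Subgroup.normalizer (H : Set G) := by
  by_contra hg
  have hne : H.map (MulAut.conj g).toMonoidHom ≠ H := fun e => hg (Subgroup.mem_normalizer_fintype fun d hd => by
    have : g * d * g⁻¹ ∈ H.map (MulAut.conj g).toMonoidHom := ⟨d, hd, by simp⟩
    rwa [e] at this)
  have h2 : g * x * g⁻¹ ∈ H ⊓ H.map (MulAut.conj g).toMonoidHom := ⟨hgx, x, hx, by simp⟩
  rw [hTI g hne, Subgroup.mem_bot] at h2
  exact hx1 (conj_eq_one_iff.1 h2)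

theorem cc (hCN : Cfsg.IsCNGroup G)
    (hTI : ∀ g : G, H.map (MulAut.conj g).toMonoidHom ≠ H → H ⊓ H.map (MulAut.conj g).toMonoidHom = ⊥)
    {x : G} (hx : x ∈ H) (hx1 : x ≠ 1) : Subgroup.centralizer ({x} : Set G) ≤ H := by
  intro y hy
  have hyN : y ∈ Subgroup.normalizer (H : Set G) := hH.mem_normalizer_of_ti hTI hx hx1 (by
    rw [Subgroup.mem_centralizer_singleton_iff.1 hy, mul_inv_cancel_right]; exact hx)
  refine Transfer.prime_parts y H fun r hr z ⟨l, hz⟩ hzy => ?_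
  haveI := Fact.mk hr
  have hzx : Commute z x := by
    obtain ⟨t, rfl⟩ := hzy
    exact (show Commute y x from Subgroup.mem_centralizer_singleton_iff.1 hy).zpow_left t
  by_cases hq : ∃ q, q.Prime ∧ q ≠ r ∧ q ∣ Nat.card H
  · obtain ⟨q, hq, hqr, hqd⟩ := hq
    haveI := Fact.mk hq
    obtain ⟨w, hw, hwo, hwc⟩ := hH.exists_central hqd
    exact hH.mem_of_commute_central hCN (fun e => hq.ne_one (by rw [← hwo, e, orderOf_one])) hwc
      (commute_of hCN hx1 hzx (hwc x hx) (by rw [hz, hwo]; exact ((Nat.coprime_primes hr hq).2 (Ne.symm hqr)).pow_left l))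
  · push Not at hq
    -- `H` is the normal Sylow subgroup of its normalizer
    set N := Subgroup.normalizer (H : Set G)
    have hzN : z ∈ N := Subgroup.zpowers_le.2 hyN hzy
    haveI : (H.subgroupOf N).Normal := Subgroup.normal_subgroupOf_of_le_normalizer le_rfl
    have h1 : (Nat.card H).Coprime (H.subgroupOf N).index :=
      (hH.hall hCN).coprime_dvd_right (Subgroup.relIndex_dvd_index_of_le Subgroup.le_normalizer)
    by_cases hrd : r ∣ Nat.card H
    · have h2 : ((⟨z, hzN⟩ : N) : N ⧸ H.subgroupOf N) = 1 := orderOf_eq_one_iff.1 (Nat.eq_one_of_dvd_coprimes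
        (((hr.coprime_iff_not_dvd).2 (fun hd => hr.not_dvd_one (by
          have := Nat.dvd_gcd hrd hd
          rwa [h1] at this))).pow_left l)
        ((orderOf_map_dvd (QuotientGroup.mk' (H.subgroupOf N)) (⟨z, hzN⟩ : N)).trans (by rw [Subgroup.orderOf_mk, hz]))
        (by rw [Subgroup.index_eq_card]; exact orderOf_dvd_natCard _))
      exact (QuotientGroup.eq_one_iff (⟨z, hzN⟩ : N)).1 h2
    · exfalso
      have hne : Nat.card H ≠ 1 := fun h => hx1 (Subgroup.mem_bot.1 (Subgroup.card_eq_one.1 h ▸ hx))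
      obtain ⟨s, hs, hsd⟩ := Nat.exists_prime_and_dvd hne
      by_cases hsr : s = r
      · exact hrd (hsr ▸ hsd)
      · exact hq s hs hsr hsd

end MaxNil

end Cfsg.Agent.Transfer.CN
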